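import Mathlib

set_option autoImplicit false

namespace Cfsg.Agent.Lib.Helper6.A6Spec

set_option maxRecDepth 1000000 in
theorem a6_pow : ∀ g : alternatingGroup (Fin 6), g ^ 4 = 1 ∨ g ^ 3 = 1 ∨ g ^ 5 = 1 := by
  decide +kernel

theorem a6_order (g : alternatingGroup (Fin 6)) :
    orderOf g = 1 ∨ orderOf g = 2 ∨ orderOf g = 3 ∨ orderOf g = 4 ∨ orderOf g = 5 := by
  rcases a6_pow g with h | h | h
  · have h0 := orderOf_dvd_of_pow_eq_one h
    have h1 : orderOf g ≤ 4 := Nat.le_of_dvd (by norm_num) h0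
    interval_cases (orderOf g) <;> simp_all
  · have h0 := orderOf_dvd_of_pow_eq_one h
    rcases (Nat.dvd_prime Nat.prime_three).1 h0 with h1 | h1
    · exact Or.inl h1
    · exact Or.inr (Or.inr (Or.inl h1))
  · have h0 := orderOf_dvd_of_pow_eq_one h
    rcases (Nat.dvd_prime Nat.prime_five).1 h0 with h1 | h1
    · exact Or.inl h1
    · exact Or.inr (Or.inr (Or.inr (Or.inr h1)))

def g2 : alternatingGroup (Fin 6) :=
  ⟨Equiv.swap 0 1 * Equiv.swap 2 3, by rw [Equiv.Perm.mem_alternatingGroup]; decide⟩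

def g3 : alternatingGroup (Fin 6) :=
  ⟨Equiv.swap 0 1 * Equiv.swap 1 2, by rw [Equiv.Perm.mem_alternatingGroup]; decide⟩

def g4 : alternatingGroup (Fin 6) :=
  ⟨Equiv.swap 0 1 * Equiv.swap 1 2 * Equiv.swap 2 3 * Equiv.swap 4 5, by
    rw [Equiv.Perm.mem_alternatingGroup]; decide⟩

def g5 : alternatingGroup (Fin 6) :=
  ⟨Equiv.swap 0 1 * Equiv.swap 1 2 * Equiv.swap 2 3 * Equiv.swap 3 4, by
    rw [Equiv.Perm.mem_alternatingGroup]; decide⟩

theorem order_g2 : orderOf g2 = 2 := by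
  have hp : Fact (Nat.Prime 2) := ⟨Nat.prime_two⟩
  exact orderOf_eq_prime (by decide) (by decide)

theorem order_g3 : orderOf g3 = 3 := by
  have hp : Fact (Nat.Prime 3) := ⟨Nat.prime_three⟩
  exact orderOf_eq_prime (by decide) (by decide)

theorem order_g4 : orderOf g4 = 4 := by
  have hp : Fact (Nat.Prime 2) := ⟨Nat.prime_two⟩
  exact orderOf_eq_prime_pow (p := 2) (n := 1) (by decide) (by decide)

theorem order_g5 : orderOf g5 = 5 := by
  have hp : Fact (Nat.Prime 5) := ⟨Nat.prime_five⟩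
  exact orderOf_eq_prime (by decide) (by decide)

theorem spec : Set.range (orderOf : alternatingGroup (Fin 6) → ℕ) = {1, 2, 3, 4, 5} := by
  ext n
  simp only [Set.mem_range, Set.mem_insert_iff, Set.mem_singleton_iff]
  constructor
  · rintro ⟨g, rfl⟩
    exact a6_order g
  · rintro (rfl | rfl | rfl | rfl | rfl)
    · exact ⟨1, orderOf_one⟩
    · exact ⟨g2, order_g2⟩
    · exact ⟨g3, order_g3⟩
    · exact ⟨g4, order_g4⟩
    · exact ⟨g5, order_g5⟩

end Cfsg.Agent.Lib.Helper6.A6Spec
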