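import Mathlib
import Cfsg.Agent.Lib.Helper6.Index
import Cfsg.Agent.Lib.Helper6.ASMax

set_option autoImplicit false

namespace Cfsg.Agent.Lib.Helper6.AbIdx

open Cfsg.Agent.Lib.Helper6
open scoped commutatorElement

variable {S : Type*} [Group S]

theorem eq_top_of_index_prime [Finite S] {p : ℕ} (hp : p.Prime) (B K : Subgroup S)
    (hBi : B.index = p) (hBK : B ≤ K) (x : S) (hxK : x ∈ K) (hxB : x ∉ B) : K = ⊤ := by
  have hKdvd : K.index ∣ p := by rw [← hBi]; exact Subgroup.index_dvd_of_le hBK
  rcases (Nat.dvd_prime hp).1 hKdvd with h | h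
  · exact Subgroup.index_eq_one.1 h
  · exfalso
    have h1 := Subgroup.index_mul_card K
    have h2 := Subgroup.index_mul_card B
    rw [h] at h1
    rw [hBi, ← h1] at h2
    have h3 : Nat.card B = Nat.card K := Nat.eq_of_mul_eq_mul_left hp.pos h2
    have h4 := Subgroup.eq_of_le_of_card_ge hBK h3.ge
    exact hxB (h4 ▸ hxK)

theorem eq_of_le_of_index_eq [Finite S] (H K : Subgroup S) (h : H ≤ K)
    (hi : H.index = K.index) : H = K := by
  have h1 := Subgroup.index_mul_card K
  have h2 := Subgroup.index_mul_card H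
  rw [hi, ← h1] at h2
  have h3 : Nat.card H = Nat.card K :=
    Nat.eq_of_mul_eq_mul_left (Nat.pos_of_ne_zero Subgroup.index_ne_zero_of_finite) h2
  exact Subgroup.eq_of_le_of_card_ge h h3.ge

theorem mem_center_of_commute [Finite S] {p : ℕ} (hp : p.Prime) (A : Subgroup S)
    (hA : IsMulCommutative ↥A) (hAi : A.index = p) (y : S) (hy : y ∉ A) (a : S) (ha : a ∈ A)
    (hay : y * a = a * y) : a ∈ Subgroup.center S := by
  have hK : Subgroup.centralizer ({a} : Set S) = ⊤ := by
    apply eq_top_of_index_prime hp A _ hAi _ y _ hy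
    · intro b hb
      rw [Subgroup.mem_centralizer_singleton_iff]
      exact congrArg Subtype.val (hA.is_comm.comm (⟨b, hb⟩ : ↥A) ⟨a, ha⟩)
    · rw [Subgroup.mem_centralizer_singleton_iff]
      exact hay
  rw [Subgroup.mem_center_iff]
  intro g
  have h1 : g ∈ Subgroup.centralizer ({a} : Set S) := by rw [hK]; trivial
  exact Subgroup.mem_centralizer_singleton_iff.1 h1

theorem center_le [Finite S] {p : ℕ} (hp : p.Prime) (hna : ¬ IsMulCommutative S)
    (A : Subgroup S) (hA : IsMulCommutative ↥A) (hAi : A.index = p) :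
    Subgroup.center S ≤ A := by
  intro z hz
  by_contra hzA
  apply hna
  have hAZ : A ≤ Subgroup.center S := by
    intro a ha
    exact mem_center_of_commute hp A hA hAi z hzA a ha (Subgroup.mem_center_iff.1 hz a).symm
  have hZtop : Subgroup.center S = ⊤ := eq_top_of_index_prime hp A _ hAi hAZ z hz hzA
  exact ⟨⟨fun a b => by
    have h1 : b ∈ Subgroup.center S := by rw [hZtop]; trivial
    exact Subgroup.mem_center_iff.1 h1 a⟩⟩

theorem comm_mem (A : Subgroup S) [hAn : A.Normal] (a : S) (ha : a ∈ A) (x : S) :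
    ⁅a, x⁆ ∈ A := by
  have h1 : ⁅a, x⁆ = a * (x * a⁻¹ * x⁻¹) := by
    simp only [commutatorElement_def]; group
  rw [h1]
  exact A.mul_mem ha (hAn.conj_mem a⁻¹ (A.inv_mem ha) x)

def commHomA (A : Subgroup S) [hAn : A.Normal] (hA : IsMulCommutative ↥A) (x : S) :
    ↥A →* ↥A where
  toFun a := ⟨⁅(a : S), x⁆, comm_mem A a.1 a.2 x⟩
  map_one' := by apply Subtype.ext; simp
  map_mul' a b := by
    apply Subtype.ext
    show ⁅((a : S) * (b : S)), x⁆ = ⁅(a : S), x⁆ * ⁅(b : S), x⁆
    have e : ⁅((a : S) * (b : S)), x⁆ = (a : S) * ⁅(b : S), x⁆ * (a : S)⁻¹ * ⁅(a : S), x⁆ := by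
      simp only [commutatorElement_def]; group
    rw [e]
    have hbx : ⁅(b : S), x⁆ ∈ A := comm_mem A b.1 b.2 x
    have hax : ⁅(a : S), x⁆ ∈ A := comm_mem A a.1 a.2 x
    have h1 : (a : S) * ⁅(b : S), x⁆ = ⁅(b : S), x⁆ * (a : S) :=
      congrArg Subtype.val (hA.is_comm.comm a ⟨_, hbx⟩)
    have h2 : ⁅(b : S), x⁆ * ⁅(a : S), x⁆ = ⁅(a : S), x⁆ * ⁅(b : S), x⁆ :=
      congrArg Subtype.val (hA.is_comm.comm (⟨_, hbx⟩ : ↥A) ⟨_, hax⟩)
    rw [h1, mul_inv_cancel_right, h2]

theorem commHomA_apply (A : Subgroup S) [hAn : A.Normal] (hA : IsMulCommutative ↥A) (x : S)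
    (a : ↥A) : ((commHomA A hA x a : ↥A) : S) = ⁅(a : S), x⁆ := rfl

theorem commHomA_ker [Finite S] {p : ℕ} (hp : p.Prime)
    (A : Subgroup S) [hAn : A.Normal] (hA : IsMulCommutative ↥A) (hAi : A.index = p)
    (x : S) (hx : x ∉ A) :
    (commHomA A hA x).ker = (Subgroup.center S).subgroupOf A := by
  ext a
  rw [MonoidHom.mem_ker, Subgroup.mem_subgroupOf]
  constructor
  · intro h
    have h1 : ⁅(a : S), x⁆ = 1 := congrArg Subtype.val h
    have h2 : (a : S) * x = x * (a : S) := (commutatorElement_eq_one_iff_commute.1 h1).eq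
    exact mem_center_of_commute hp A hA hAi x hx a.1 a.2 h2.symm
  · intro h
    apply Subtype.ext
    show ⁅(a : S), x⁆ = 1
    rw [commutatorElement_eq_one_iff_commute]
    exact (Subgroup.mem_center_iff.1 h x).symm

theorem commutator_eq_range [Finite S] {p : ℕ} (hp : p.Prime)
    (A : Subgroup S) [hAn : A.Normal] (hA : IsMulCommutative ↥A) (hAi : A.index = p)
    (x : S) (hx : x ∉ A) :
    commutator S = (commHomA A hA x).range.map A.subtype := by
  have hRA : (commHomA A hA x).range.map A.subtype ≤ A := by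
    rintro _ ⟨r, -, rfl⟩
    exact r.2
  have hmemR : ∀ a ∈ A, ⁅a, x⁆ ∈ (commHomA A hA x).range.map A.subtype := by
    intro a ha
    exact ⟨commHomA A hA x ⟨a, ha⟩, ⟨_, rfl⟩, rfl⟩
  apply le_antisymm
  · have hnorm : Subgroup.normalizer (((commHomA A hA x).range.map A.subtype : Subgroup S) : Set S)
        = ⊤ := by
      apply eq_top_of_index_prime hp A _ hAi _ x _ hx
      · intro b hb
        apply ASMax.mem_normalizer_of_conj_le'
        intro r hr
        have h1 : b * r = r * b :=
          congrArg Subtype.val (hA.is_comm.comm (⟨b, hb⟩ : ↥A) ⟨r, hRA hr⟩)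
        rw [h1, mul_inv_cancel_right]
        exact hr
      · apply ASMax.mem_normalizer_of_conj_le'
        rintro _ ⟨_, ⟨a, rfl⟩, rfl⟩
        have h1 : x * (A.subtype (commHomA A hA x a)) * x⁻¹ = ⁅x * (a : S) * x⁻¹, x⁆ := by
          show x * ⁅(a : S), x⁆ * x⁻¹ = ⁅x * (a : S) * x⁻¹, x⁆
          simp only [commutatorElement_def]; group
        rw [h1]
        exact hmemR _ (hAn.conj_mem a.1 a.2 x)
    haveI hRn : ((commHomA A hA x).range.map A.subtype).Normal :=
      Subgroup.normalizer_eq_top_iff.1 hnorm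
    rw [← Subgroup.Normal.quotient_commutative_iff_commutator_le]
    have hcomm_iff : ∀ g h : S,
        (g : S ⧸ (commHomA A hA x).range.map A.subtype) * (h : S ⧸ _) = (h : S ⧸ _) * (g : S ⧸ _) ↔
          ⁅g, h⁆ ∈ (commHomA A hA x).range.map A.subtype := by
      intro g h
      rw [← QuotientGroup.eq_one_iff]
      have h1 : ((⁅g, h⁆ : S) : S ⧸ (commHomA A hA x).range.map A.subtype) =
          ⁅(g : S ⧸ (commHomA A hA x).range.map A.subtype), (h : S ⧸ _)⁆ := by
        simp [commutatorElement_def]
      rw [h1, commutatorElement_eq_one_iff_commute]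
      exact Iff.rfl
    -- the image of x is central
    have hK1 : ∀ g : S, (g : S ⧸ (commHomA A hA x).range.map A.subtype) * (x : S ⧸ _) =
        (x : S ⧸ _) * (g : S ⧸ _) := by
      have h1 : (Subgroup.centralizer
          ({(x : S ⧸ (commHomA A hA x).range.map A.subtype)} : Set (S ⧸ _))).comap
          (QuotientGroup.mk' _) = ⊤ := by
        apply eq_top_of_index_prime hp A _ hAi _ x _ hx
        · intro a ha
          rw [Subgroup.mem_comap, Subgroup.mem_centralizer_singleton_iff]
          exact (hcomm_iff a x).2 (hmemR a ha)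
        · rw [Subgroup.mem_comap, Subgroup.mem_centralizer_singleton_iff]
          rfl
      intro g
      have h2 : g ∈ (Subgroup.centralizer
          ({(x : S ⧸ (commHomA A hA x).range.map A.subtype)} : Set (S ⧸ _))).comap
          (QuotientGroup.mk' _) := by rw [h1]; trivial
      rw [Subgroup.mem_comap, Subgroup.mem_centralizer_singleton_iff] at h2
      exact h2
    have hK2 : ∀ a ∈ A, ∀ g : S, (g : S ⧸ (commHomA A hA x).range.map A.subtype) * (a : S ⧸ _) =
        (a : S ⧸ _) * (g : S ⧸ _) := by
      intro a ha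
      have h1 : (Subgroup.centralizer
          ({(a : S ⧸ (commHomA A hA x).range.map A.subtype)} : Set (S ⧸ _))).comap
          (QuotientGroup.mk' _) = ⊤ := by
        apply eq_top_of_index_prime hp A _ hAi _ x _ hx
        · intro b hb
          rw [Subgroup.mem_comap, Subgroup.mem_centralizer_singleton_iff]
          have h3 : b * a = a * b := congrArg Subtype.val (hA.is_comm.comm (⟨b, hb⟩ : ↥A) ⟨a, ha⟩)
          show ((b : S ⧸ (commHomA A hA x).range.map A.subtype)) * (a : S ⧸ _) =
            (a : S ⧸ _) * (b : S ⧸ _)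
          rw [← QuotientGroup.mk_mul, ← QuotientGroup.mk_mul, h3]
        · rw [Subgroup.mem_comap, Subgroup.mem_centralizer_singleton_iff]
          exact (hK1 a).symm
      intro g
      have h2 : g ∈ (Subgroup.centralizer
          ({(a : S ⧸ (commHomA A hA x).range.map A.subtype)} : Set (S ⧸ _))).comap
          (QuotientGroup.mk' _) := by rw [h1]; trivial
      rw [Subgroup.mem_comap, Subgroup.mem_centralizer_singleton_iff] at h2
      exact h2
    have hK3 : (Subgroup.center (S ⧸ (commHomA A hA x).range.map A.subtype)).comap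
        (QuotientGroup.mk' _) = ⊤ := by
      apply eq_top_of_index_prime hp A _ hAi _ x _ hx
      · intro a ha
        rw [Subgroup.mem_comap, Subgroup.mem_center_iff]
        intro q
        obtain ⟨g, rfl⟩ := QuotientGroup.mk_surjective q
        exact hK2 a ha g
      · rw [Subgroup.mem_comap, Subgroup.mem_center_iff]
        intro q
        obtain ⟨g, rfl⟩ := QuotientGroup.mk_surjective q
        exact hK1 g
    refine ⟨⟨fun q r => ?_⟩⟩
    obtain ⟨g, rfl⟩ := QuotientGroup.mk_surjective q
    obtain ⟨h, rfl⟩ := QuotientGroup.mk_surjective r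
    have h2 : h ∈ (Subgroup.center (S ⧸ (commHomA A hA x).range.map A.subtype)).comap
        (QuotientGroup.mk' _) := by rw [hK3]; trivial
    rw [Subgroup.mem_comap, Subgroup.mem_center_iff] at h2
    exact h2 _
  · rintro _ ⟨_, ⟨a, rfl⟩, rfl⟩
    rw [commutator_def]
    exact Subgroup.commutator_mem_commutator (Subgroup.mem_top _) (Subgroup.mem_top _)

theorem card_commutator [Finite S] {p : ℕ} (hp : p.Prime)
    (A : Subgroup S) [hAn : A.Normal] (hA : IsMulCommutative ↥A) (hAi : A.index = p) :
    Nat.card (commutator S) = (Subgroup.center S).relIndex A := by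
  have hAtop : A ≠ ⊤ := by
    intro h
    rw [h, Subgroup.index_top] at hAi
    exact hp.one_lt.ne hAi
  obtain ⟨x, hx⟩ : ∃ x : S, x ∉ A := by
    by_contra hc
    push Not at hc
    exact hAtop (eq_top_iff.2 fun x _ => hc x)
  rw [commutator_eq_range hp A hA hAi x hx,
    Subgroup.card_map_of_injective (Subgroup.subtype_injective A), Subgroup.relIndex,
    ← commHomA_ker hp A hA hAi x hx, Subgroup.index_ker]

theorem relIndex_of_two [Finite S] {p : ℕ} (hp : p.Prime) (hna : ¬ IsMulCommutative S)
    (A B : Subgroup S) (hA : IsMulCommutative ↥A) (hAi : A.index = p)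
    (hB : IsMulCommutative ↥B) (hBi : B.index = p) [hBn : B.Normal] (hne : B ≠ A) :
    (Subgroup.center S).relIndex A = p := by
  have hZA := center_le hp hna A hA hAi
  have hZB := center_le hp hna B hB hBi
  obtain ⟨b, hbB, hbA⟩ : ∃ b ∈ B, b ∉ A := by
    by_contra hc
    push Not at hc
    exact hne (eq_of_le_of_index_eq B A hc (hBi.trans hAi.symm))
  have hinf : A ⊓ B = Subgroup.center S := by
    apply le_antisymm
    · rintro d ⟨hdA, hdB⟩
      apply mem_center_of_commute hp A hA hAi b hbA d hdA
      exact congrArg Subtype.val (hB.is_comm.comm (⟨b, hbB⟩ : ↥B) ⟨d, hdB⟩)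
    · exact le_inf hZA hZB
  rw [← hinf, Subgroup.inf_relIndex_left]
  have h1 : B.relIndex A ∣ p := by
    rw [← hBi]; exact Subgroup.relIndex_dvd_index_of_normal B A
  rcases (Nat.dvd_prime hp).1 h1 with h | h
  · exfalso
    rw [Subgroup.relIndex_eq_one] at h
    exact hne (eq_of_le_of_index_eq A B h (hAi.trans hBi.symm)).symm
  · exact h

theorem commutative_of_center_index_dvd {A : Type*} [Group A] [Finite A] {p : ℕ} (hp : p.Prime)
    (h : (Subgroup.center A).index ∣ p) : IsMulCommutative A := by
  haveI hcyc : IsCyclic (A ⧸ Subgroup.center A) := by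
    have h3 : Nat.card (A ⧸ Subgroup.center A) = (Subgroup.center A).index := rfl
    rcases (Nat.dvd_prime hp).1 h with h1 | h1
    · rw [h1] at h3
      haveI : Subsingleton (A ⧸ Subgroup.center A) := (Nat.card_eq_one_iff_unique.1 h3).1
      exact isCyclic_of_subsingleton
    · rw [h1] at h3
      haveI : Fact (Nat.card (A ⧸ Subgroup.center A)).Prime := ⟨by rw [h3]; exact hp⟩
      exact isCyclic_of_prime_card (p := Nat.card (A ⧸ Subgroup.center A)) rfl
  exact isMulCommutative_of_isCyclic_quotient_center_self A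

theorem abelian_iff [Finite S] {p : ℕ} (hp : p.Prime) (hna : ¬ IsMulCommutative S)
    (hZ : (Subgroup.center S).index = p ^ 2) (B : Subgroup S) :
    (IsMulCommutative ↥B ∧ B.index = p) ↔ (Subgroup.center S ≤ B ∧ B.index = p) := by
  constructor
  · rintro ⟨hB, hBi⟩
    exact ⟨center_le hp hna B hB hBi, hBi⟩
  · rintro ⟨hZB, hBi⟩
    refine ⟨?_, hBi⟩
    have h1 := Subgroup.relIndex_mul_index hZB
    rw [hBi, hZ] at h1
    have h2 : (Subgroup.center S).relIndex B = p := by
      have h3 : (Subgroup.center S).relIndex B * p = p * p := by rw [h1]; ring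
      exact Nat.eq_of_mul_eq_mul_right hp.pos h3
    apply commutative_of_center_index_dvd hp
    have hle : (Subgroup.center S).subgroupOf B ≤ Subgroup.center ↥B := by
      intro z hz
      rw [Subgroup.mem_subgroupOf] at hz
      rw [Subgroup.mem_center_iff]
      intro g
      apply Subtype.ext
      exact Subgroup.mem_center_iff.1 hz g.1
    have h4 := Subgroup.index_dvd_of_le hle
    rwa [← Subgroup.relIndex, h2] at h4

theorem card_diff [Finite S] (Z B : Subgroup S) (h : Z ≤ B) :
    Nat.card {g : S // g ∉ Z ∧ g ∈ B} + Nat.card Z = Nat.card B := by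
  have h1 : Nat.card {g : S // g ∉ Z ∧ g ∈ B} = ((B : Set S) \ (Z : Set S)).ncard := by
    rw [← Nat.card_coe_set_eq]
    apply Nat.card_congr
    exact Equiv.subtypeEquivRight (fun g => by
      rw [Set.mem_diff, SetLike.mem_coe, SetLike.mem_coe, and_comm])
  have h2 : (Z : Set S).ncard = Nat.card Z := (Nat.card_coe_set_eq (Z : Set S)).symm
  have h3 : (B : Set S).ncard = Nat.card B := (Nat.card_coe_set_eq (B : Set S)).symm
  rw [h1, Set.ncard_diff (SetLike.coe_subset_coe.2 h), h2, h3]
  have h4 := Subgroup.card_le_of_le h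
  omega

theorem card_index_p [Finite S] {p : ℕ} (hp : p.Prime) (hna : ¬ IsMulCommutative S)
    (hZ : (Subgroup.center S).index = p ^ 2) :
    Nat.card {B : Subgroup S // Subgroup.center S ≤ B ∧ B.index = p} = p + 1 := by
  classical
  have hcent : ∀ g : S, g ∉ Subgroup.center S →
      Subgroup.center S ≤ Subgroup.centralizer ({g} : Set S) ∧
        (Subgroup.centralizer ({g} : Set S)).index = p := by
    intro g hg
    have hZC : Subgroup.center S ≤ Subgroup.centralizer ({g} : Set S) := by
      intro z hz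
      rw [Subgroup.mem_centralizer_singleton_iff]
      exact (Subgroup.mem_center_iff.1 hz g).symm
    refine ⟨hZC, ?_⟩
    have hgC : g ∈ Subgroup.centralizer ({g} : Set S) := by
      rw [Subgroup.mem_centralizer_singleton_iff]
    have h1 := Subgroup.relIndex_mul_index hZC
    rw [hZ] at h1
    have h2 : (Subgroup.centralizer ({g} : Set S)).index ≠ 1 := by
      intro h
      rw [Subgroup.index_eq_one] at h
      apply hg
      rw [Subgroup.mem_center_iff]
      intro k
      have h5 : k ∈ Subgroup.centralizer ({g} : Set S) := by rw [h]; trivial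
      exact Subgroup.mem_centralizer_singleton_iff.1 h5
    have h3 : (Subgroup.center S).relIndex (Subgroup.centralizer ({g} : Set S)) ≠ 1 := by
      intro h
      rw [Subgroup.relIndex_eq_one] at h
      exact hg (h hgC)
    have h4 : (Subgroup.centralizer ({g} : Set S)).index ∣ p ^ 2 := Dvd.intro_left _ h1
    obtain ⟨j, hj2, hj⟩ := (Nat.dvd_prime_pow hp).1 h4
    interval_cases j
    · rw [pow_zero] at hj; exact absurd hj h2
    · rw [pow_one] at hj; exact hj
    · exfalso
      rw [hj] at h1
      apply h3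
      have h6 : (Subgroup.center S).relIndex (Subgroup.centralizer ({g} : Set S)) * p ^ 2 =
          1 * p ^ 2 := by rw [h1, one_mul]
      exact Nat.eq_of_mul_eq_mul_right (pow_pos hp.pos 2) h6
  let f : {g : S // g ∉ Subgroup.center S} →
      {B : Subgroup S // Subgroup.center S ≤ B ∧ B.index = p} :=
    fun g => ⟨Subgroup.centralizer ({g.1} : Set S), hcent g.1 g.2⟩
  have hfiber : ∀ B : {B : Subgroup S // Subgroup.center S ≤ B ∧ B.index = p},
      Nat.card {g : {g : S // g ∉ Subgroup.center S} // f g = B} + Nat.card (Subgroup.center S) =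
        p * Nat.card (Subgroup.center S) := by
    intro B
    have hBab : IsMulCommutative ↥B.1 := ((abelian_iff hp hna hZ B.1).2 B.2).1
    have e1 : {g : {g : S // g ∉ Subgroup.center S} // f g = B} ≃
        {g : S // g ∉ Subgroup.center S ∧ g ∈ B.1} := by
      refine (Equiv.subtypeEquivRight (fun g => ?_)).trans
        (Equiv.subtypeSubtypeEquivSubtypeInter (fun g : S => g ∉ Subgroup.center S)
          (fun g : S => g ∈ B.1))
      constructor
      · intro h
        have h1 : Subgroup.centralizer ({g.1} : Set S) = B.1 := congrArg Subtype.val h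
        rw [← h1, Subgroup.mem_centralizer_singleton_iff]
      · intro h
        apply Subtype.ext
        show Subgroup.centralizer ({g.1} : Set S) = B.1
        symm
        apply eq_of_le_of_index_eq
        · intro b hb
          rw [Subgroup.mem_centralizer_singleton_iff]
          exact congrArg Subtype.val (hBab.is_comm.comm (⟨b, hb⟩ : ↥B.1) ⟨g.1, h⟩)
        · rw [B.2.2, (hcent g.1 g.2).2]
    rw [Nat.card_congr e1, card_diff (Subgroup.center S) B.1 B.2.1]
    have h1 := Subgroup.index_mul_card B.1
    have h2 := Subgroup.index_mul_card (Subgroup.center S)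
    rw [B.2.2] at h1
    rw [hZ] at h2
    have h3 : p * Nat.card B.1 = p * (p * Nat.card (Subgroup.center S)) := by
      rw [h1, ← h2]; ring
    exact Nat.eq_of_mul_eq_mul_left hp.pos h3
  haveI : Fintype {B : Subgroup S // Subgroup.center S ≤ B ∧ B.index = p} := Fintype.ofFinite _
  have htotal : Nat.card {g : S // g ∉ Subgroup.center S} =
      ∑ B : {B : Subgroup S // Subgroup.center S ≤ B ∧ B.index = p},
        Nat.card {g : {g : S // g ∉ Subgroup.center S} // f g = B} := by
    rw [← Nat.card_sigma]
    exact Nat.card_congr (Equiv.sigmaFiberEquiv f).symm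
  obtain ⟨q, hq⟩ : ∃ q, p = q + 1 := ⟨p - 1, by have := hp.pos; omega⟩
  have hfib2 : ∀ B : {B : Subgroup S // Subgroup.center S ≤ B ∧ B.index = p},
      Nat.card {g : {g : S // g ∉ Subgroup.center S} // f g = B} =
        q * Nat.card (Subgroup.center S) := by
    intro B
    have h1 := hfiber B
    have h2 : p * Nat.card (Subgroup.center S) =
        q * Nat.card (Subgroup.center S) + Nat.card (Subgroup.center S) := by
      rw [hq]; ring
    omega
  rw [Finset.sum_congr rfl (fun B _ => hfib2 B), Finset.sum_const, Finset.card_univ,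
    smul_eq_mul, ← Nat.card_eq_fintype_card] at htotal
  have h5 : Nat.card {g : S // g ∉ Subgroup.center S} + Nat.card (Subgroup.center S) =
      p ^ 2 * Nat.card (Subgroup.center S) := by
    have h6 := card_diff (Subgroup.center S) ⊤ le_top
    have h7 : Nat.card {g : S // g ∉ Subgroup.center S ∧ g ∈ (⊤ : Subgroup S)} =
        Nat.card {g : S // g ∉ Subgroup.center S} :=
      Nat.card_congr (Equiv.subtypeEquivRight (fun g => by simp))
    rw [h7, Subgroup.card_top, ← Subgroup.index_mul_card (Subgroup.center S), hZ] at h6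
    exact h6
  rw [htotal] at h5
  have hz : 0 < Nat.card (Subgroup.center S) := Nat.card_pos
  have hq0 : 0 < q := by have := hp.one_lt; omega
  have h8 : Nat.card {B : Subgroup S // Subgroup.center S ≤ B ∧ B.index = p} * q *
      Nat.card (Subgroup.center S) = (q + 2) * q * Nat.card (Subgroup.center S) := by
    have h9 : p ^ 2 = (q + 1) ^ 2 := by rw [hq]
    rw [h9] at h5
    nlinarith
  have h9 := Nat.eq_of_mul_eq_mul_right hz h8
  have h10 := Nat.eq_of_mul_eq_mul_right hq0 h9
  rw [h10, hq]

end Cfsg.Agent.Lib.Helper6.AbIdx
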