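import Mathlib

set_option autoImplicit false

namespace Cfsg.Agent.Lib.Helper6.ConjSmul

open scoped Pointwise

theorem mem_conj_smul {G : Type*} [Group G] (H : Subgroup G) (g x : G) :
    x ∈ MulAut.conj g • H ↔ g⁻¹ * x * g ∈ H := by
  rw [Subgroup.mem_pointwise_smul_iff_inv_smul_mem]
  simp [MulAut.smul_def]

end Cfsg.Agent.Lib.Helper6.ConjSmul
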