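import Mathlib

set_option autoImplicit false

namespace Cfsg.Agent.Lib.Helper6.CycMod

open Polynomial

theorem intertwine_pow {K : Type*} [Field K] {V : Type*} [AddCommGroup V] [Module K V]
    (L T T₂ : V →ₗ[K] V) (h : ∀ v, L (T v) = T₂ (L v)) (n : ℕ) (v : V) :
    L ((T ^ n) v) = (T₂ ^ n) (L v) := by
  induction n generalizing v with
  | zero => simp
  | succ n ih => rw [pow_succ, pow_succ, Module.End.mul_apply, Module.End.mul_apply, ih, h]

theorem intertwine {K : Type*} [Field K] {V : Type*} [AddCommGroup V] [Module K V]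
    (L T T₂ : V →ₗ[K] V) (h : ∀ v, L (T v) = T₂ (L v)) (f : K[X]) (v : V) :
    L (aeval T f v) = aeval T₂ f (L v) := by
  induction f using Polynomial.induction_on' with
  | add f g hf hg => simp [map_add, hf, hg]
  | monomial n a =>
    rw [aeval_monomial, aeval_monomial]
    simp only [Module.End.mul_apply, Module.algebraMap_end_apply, map_smul]
    rw [intertwine_pow L T T₂ h]

theorem aeval_cyclotomic_eq_zero {K : Type*} [Field K] {V : Type*} [AddCommGroup V] [Module K V]
    (s : ℕ) [Fact s.Prime] (T : V →ₗ[K] V) (hT : T ^ s = 1)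
    (hfix : ∀ v, T v = v → v = 0) : aeval T (cyclotomic s K) = 0 := by
  have h1 : aeval T ((X - 1) * cyclotomic s K) = 0 := by
    rw [mul_comm, cyclotomic_prime_mul_X_sub_one]
    simp [hT]
  rw [map_mul] at h1
  ext v
  apply hfix
  have h3 : (aeval T (X - 1 : K[X]) * aeval T (cyclotomic s K)) v = 0 := by
    rw [h1]; simp
  have h2 : aeval T (X - 1 : K[X]) = T - 1 := by simp
  rw [h2, Module.End.mul_apply, LinearMap.sub_apply, Module.End.one_apply, sub_eq_zero] at h3
  exact h3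

theorem exists_semi {K : Type*} [Field K] [Finite K] (Φ : K[X]) (hirr : Irreducible Φ)
    {V : Type*} [AddCommGroup V] [Module K V] [Finite V]
    (T₁ T₂ : V →ₗ[K] V) (h₁ : aeval T₁ Φ = 0) (h₂ : aeval T₂ Φ = 0) :
    ∃ S : V ≃+ V, ∀ v, S (T₁ v) = T₂ (S v) := by
  classical
  haveI hmax : (Ideal.span {Φ}).IsMaximal := PrincipalIdealRing.isMaximal_of_irreducible hirr
  letI : Field (K[X] ⧸ Ideal.span {Φ}) := Ideal.Quotient.field _
  haveI hfinE : Finite (K[X] ⧸ Ideal.span {Φ}) := by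
    haveI : Module.Finite K (AdjoinRoot Φ) := (AdjoinRoot.powerBasis hirr.ne_zero).finite
    exact (Module.finite_of_finite K : Finite (AdjoinRoot Φ))
  have ht₁ : Module.IsTorsionBy K[X] (Module.AEval' T₁) Φ := by
    intro m
    obtain ⟨v, rfl⟩ := (Module.AEval'.of T₁).surjective m
    rw [← Module.AEval.of_aeval_smul, h₁]
    simp
  have ht₂ : Module.IsTorsionBy K[X] (Module.AEval' T₂) Φ := by
    intro m
    obtain ⟨v, rfl⟩ := (Module.AEval'.of T₂).surjective m
    rw [← Module.AEval.of_aeval_smul, h₂]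
    simp
  letI : Module (K[X] ⧸ Ideal.span {Φ}) (Module.AEval' T₁) := ht₁.module
  letI : Module (K[X] ⧸ Ideal.span {Φ}) (Module.AEval' T₂) := ht₂.module
  haveI : Finite (Module.AEval' T₁) := Finite.of_equiv V (Module.AEval'.of T₁).toEquiv
  haveI : Finite (Module.AEval' T₂) := Finite.of_equiv V (Module.AEval'.of T₂).toEquiv
  have hc₁ := Module.natCard_eq_pow_finrank (K := K[X] ⧸ Ideal.span {Φ}) (V := Module.AEval' T₁)
  have hc₂ := Module.natCard_eq_pow_finrank (K := K[X] ⧸ Ideal.span {Φ}) (V := Module.AEval' T₂)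
  have hcard : Nat.card (Module.AEval' T₁) = Nat.card (Module.AEval' T₂) := by
    rw [← Nat.card_congr (Module.AEval'.of T₁).toEquiv, ← Nat.card_congr (Module.AEval'.of T₂).toEquiv]
  have hfr : Module.finrank (K[X] ⧸ Ideal.span {Φ}) (Module.AEval' T₁) =
      Module.finrank (K[X] ⧸ Ideal.span {Φ}) (Module.AEval' T₂) := by
    apply Nat.pow_right_injective (Finite.one_lt_card : 2 ≤ Nat.card (K[X] ⧸ Ideal.span {Φ}))
    show Nat.card (K[X] ⧸ Ideal.span {Φ}) ^ _ = Nat.card (K[X] ⧸ Ideal.span {Φ}) ^ _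
    rw [← hc₁, ← hc₂, hcard]
  obtain ⟨Λ⟩ := FiniteDimensional.nonempty_linearEquiv_of_finrank_eq hfr
  refine ⟨((Module.AEval'.of T₁).toAddEquiv.trans Λ.toAddEquiv).trans
    (Module.AEval'.of T₂).symm.toAddEquiv, ?_⟩
  intro v
  show (Module.AEval'.of T₂).symm (Λ (Module.AEval'.of T₁ (T₁ v))) =
    T₂ ((Module.AEval'.of T₂).symm (Λ (Module.AEval'.of T₁ v)))
  rw [← Module.AEval'.X_smul_of, ← Module.AEval'.of_symm_X_smul]
  congr 1
  have e1 : (X : K[X]) • Module.AEval'.of T₁ v =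
      (Ideal.Quotient.mk (Ideal.span {Φ}) X) • Module.AEval'.of T₁ v := rfl
  have e2 : (X : K[X]) • Λ (Module.AEval'.of T₁ v) =
      (Ideal.Quotient.mk (Ideal.span {Φ}) X) • Λ (Module.AEval'.of T₁ v) := rfl
  rw [e1, e2, map_smul]

theorem exists_equiv_vec {K : Type*} [Field K] (Φ : K[X]) (hirr : Irreducible Φ)
    {V : Type*} [AddCommGroup V] [Module K V] [Finite V]
    (T : V →ₗ[K] V) (h : aeval T Φ = 0) (u u' : V) (hu : u ≠ 0) (hu' : u' ≠ 0) :
    ∃ L : V ≃+ V, L u = u' ∧ ∀ v, L (T v) = T (L v) := by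
  classical
  haveI hmax : (Ideal.span {Φ}).IsMaximal := PrincipalIdealRing.isMaximal_of_irreducible hirr
  letI : Field (K[X] ⧸ Ideal.span {Φ}) := Ideal.Quotient.field _
  have ht : Module.IsTorsionBy K[X] (Module.AEval' T) Φ := by
    intro m
    obtain ⟨v, rfl⟩ := (Module.AEval'.of T).surjective m
    rw [← Module.AEval.of_aeval_smul, h]
    simp
  letI : Module (K[X] ⧸ Ideal.span {Φ}) (Module.AEval' T) := ht.module
  haveI : Finite (Module.AEval' T) := Finite.of_equiv V (Module.AEval'.of T).toEquiv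
  have hm : Module.AEval'.of T u ≠ 0 := by simpa using hu
  have hm' : Module.AEval'.of T u' ≠ 0 := by simpa using hu'
  obtain ⟨g, hg⟩ := Submodule.exists_linearEquiv_restrict_eq
    ((LinearEquiv.toSpanNonzeroSingleton (K[X] ⧸ Ideal.span {Φ}) (Module.AEval' T) _ hm).symm.trans
      (LinearEquiv.toSpanNonzeroSingleton (K[X] ⧸ Ideal.span {Φ}) (Module.AEval' T) _ hm'))
  refine ⟨((Module.AEval'.of T).toAddEquiv.trans g.toAddEquiv).trans
    (Module.AEval'.of T).symm.toAddEquiv, ?_, ?_⟩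
  · show (Module.AEval'.of T).symm (g (Module.AEval'.of T u)) = u'
    have := hg ⟨Module.AEval'.of T u, Submodule.mem_span_singleton_self _⟩
    rw [← this]
    rw [LinearEquiv.symm_apply_eq]
    simp only [LinearEquiv.trans_apply]
    rw [← LinearEquiv.toSpanNonzeroSingleton_one (K[X] ⧸ Ideal.span {Φ}) (Module.AEval' T) _ hm,
      LinearEquiv.symm_apply_apply, LinearEquiv.toSpanNonzeroSingleton_one]
  · intro v
    show (Module.AEval'.of T).symm (g (Module.AEval'.of T (T v))) =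
      T ((Module.AEval'.of T).symm (g (Module.AEval'.of T v)))
    rw [← Module.AEval'.X_smul_of, ← Module.AEval'.of_symm_X_smul]
    congr 1
    have e1 : (X : K[X]) • Module.AEval'.of T v =
        (Ideal.Quotient.mk (Ideal.span {Φ}) X) • Module.AEval'.of T v := rfl
    have e2 : (X : K[X]) • g (Module.AEval'.of T v) =
        (Ideal.Quotient.mk (Ideal.span {Φ}) X) • g (Module.AEval'.of T v) := rfl
    rw [e1, e2, map_smul]

theorem deg_ge {r s : ℕ} [Fact r.Prime] [Fact s.Prime] (hrs : r ≠ s)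
    {V : Type*} [AddCommGroup V] [Module (ZMod r) V] [Nontrivial V]
    (T : V →ₗ[ZMod r] V) (hΦ : aeval T (cyclotomic s (ZMod r)) = 0)
    (H1 : ∀ i : ℕ, 1 ≤ i → i < s → ∃ L : V →ₗ[ZMod r] V, Function.Surjective L ∧
      ∀ v, L (T v) = (T ^ i) (L v))
    (h : (ZMod r)[X]) (hh0 : h ≠ 0) (hh : aeval T h = 0) : s - 1 ≤ h.natDegree := by
  classical
  set I : Ideal (ZMod r)[X] :=
    RingHom.ker (aeval T : (ZMod r)[X] →ₐ[ZMod r] Module.End (ZMod r) V) with hI
  have hIne : I ≠ ⊤ := by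
    intro htop
    have h1 : (1 : (ZMod r)[X]) ∈ I := by rw [htop]; trivial
    rw [hI, RingHom.mem_ker, map_one] at h1
    obtain ⟨v, hv⟩ := exists_ne (0 : V)
    apply hv
    have h2 : (1 : Module.End (ZMod r) V) v = (0 : Module.End (ZMod r) V) v := by rw [h1]
    simpa using h2
  obtain ⟨𝔪, h𝔪, hI𝔪⟩ := Ideal.exists_le_maximal I hIne
  haveI := h𝔪
  letI : Field ((ZMod r)[X] ⧸ 𝔪) := Ideal.Quotient.field 𝔪
  set ζ : (ZMod r)[X] ⧸ 𝔪 := Ideal.Quotient.mk 𝔪 X with hζ
  have haev : ∀ f : (ZMod r)[X], aeval ζ f = Ideal.Quotient.mk 𝔪 f := by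
    intro f
    have h1 := Polynomial.aeval_algHom_apply (Ideal.Quotient.mkₐ (ZMod r) 𝔪) (X : (ZMod r)[X]) f
    rw [aeval_X_left] at h1
    exact h1
  have key : ∀ f : (ZMod r)[X], aeval T f = 0 → aeval ζ f = 0 := by
    intro f hf
    rw [haev, Ideal.Quotient.eq_zero_iff_mem]
    exact hI𝔪 (by rw [hI, RingHom.mem_ker]; exact hf)
  have hζs : ζ ^ s = 1 := by
    have h1 := key _ hΦ
    have h2 : aeval ζ (cyclotomic s (ZMod r) * (X - 1)) = 0 := by rw [map_mul, h1, zero_mul]
    rw [cyclotomic_prime_mul_X_sub_one] at h2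
    simpa [sub_eq_zero] using h2
  have hζ1 : ζ ≠ 1 := by
    intro h1
    have h2 := key _ hΦ
    rw [h1] at h2
    have h3 : aeval (1 : (ZMod r)[X] ⧸ 𝔪) (cyclotomic s (ZMod r)) =
        algebraMap (ZMod r) ((ZMod r)[X] ⧸ 𝔪) (eval 1 (cyclotomic s (ZMod r))) := by
      rw [← aeval_algebraMap_apply_eq_algebraMap_eval]; simp
    rw [h3, eval_one_cyclotomic_prime] at h2
    have h4 : ((s : ℕ) : ZMod r) = 0 := by
      have hinj := (algebraMap (ZMod r) ((ZMod r)[X] ⧸ 𝔪)).injective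
      apply hinj
      rw [h2, map_zero]
    rw [ZMod.natCast_eq_zero_iff] at h4
    exact hrs ((Nat.prime_dvd_prime_iff_eq Fact.out Fact.out).mp h4)
  have hord : orderOf ζ = s := orderOf_eq_prime hζs hζ1
  have hroot : ∀ i : ℕ, 1 ≤ i → i < s →
      (h.map (algebraMap (ZMod r) ((ZMod r)[X] ⧸ 𝔪))).IsRoot (ζ ^ i) := by
    intro i hi1 his
    obtain ⟨L, hLs, hL⟩ := H1 i hi1 his
    have h1 : aeval (T ^ i) h = 0 := by
      ext w
      obtain ⟨v, rfl⟩ := hLs w
      rw [← intertwine L T (T ^ i) hL h v, hh]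
      simp
    have h2 : aeval T (h.comp (X ^ i)) = 0 := by
      rw [aeval_comp]; simpa using h1
    have h3 := key _ h2
    rw [aeval_comp] at h3
    simp only [map_pow, aeval_X] at h3
    rw [IsRoot.def, eval_map_algebraMap]
    exact h3
  have hmap0 : h.map (algebraMap (ZMod r) ((ZMod r)[X] ⧸ 𝔪)) ≠ 0 :=
    (Polynomial.map_ne_zero_iff (algebraMap (ZMod r) ((ZMod r)[X] ⧸ 𝔪)).injective).mpr hh0
  have hsub : (Finset.Ico 1 s).image (fun i => ζ ^ i) ⊆
      (h.map (algebraMap (ZMod r) ((ZMod r)[X] ⧸ 𝔪))).roots.toFinset := by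
    intro y hy
    rw [Finset.mem_image] at hy
    obtain ⟨i, hi, rfl⟩ := hy
    rw [Finset.mem_Ico] at hi
    rw [Multiset.mem_toFinset, mem_roots hmap0]
    exact hroot i hi.1 hi.2
  have hcard : ((Finset.Ico 1 s).image (fun i => ζ ^ i)).card = s - 1 := by
    rw [Finset.card_image_of_injOn, Nat.card_Ico]
    intro i hi j hj hij
    simp only [Finset.coe_Ico, Set.mem_Ico] at hi hj
    exact pow_injOn_Iio_orderOf (by rw [hord]; exact hi.2) (by rw [hord]; exact hj.2) hij
  calc s - 1 = ((Finset.Ico 1 s).image (fun i => ζ ^ i)).card := hcard.symm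
    _ ≤ (h.map (algebraMap (ZMod r) ((ZMod r)[X] ⧸ 𝔪))).roots.toFinset.card :=
        Finset.card_le_card hsub
    _ ≤ Multiset.card (h.map (algebraMap (ZMod r) ((ZMod r)[X] ⧸ 𝔪))).roots :=
        Multiset.toFinset_card_le _
    _ ≤ (h.map (algebraMap (ZMod r) ((ZMod r)[X] ⧸ 𝔪))).natDegree := card_roots' _
    _ = h.natDegree := natDegree_map _

theorem irreducible_cyclotomic_of_transitive {r s : ℕ} [Fact r.Prime] [Fact s.Prime] (hrs : r ≠ s)
    {V : Type*} [AddCommGroup V] [Module (ZMod r) V] [Finite V] [Nontrivial V]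
    (T : V →ₗ[ZMod r] V) (hΦ : aeval T (cyclotomic s (ZMod r)) = 0)
    (H1 : ∀ i : ℕ, 1 ≤ i → i < s → ∃ L : V →ₗ[ZMod r] V, Function.Surjective L ∧
      ∀ v, L (T v) = (T ^ i) (L v))
    (H2 : ∀ w₁ w₂ : V, w₁ ≠ 0 → w₂ ≠ 0 → ∃ (i : ℕ) (L : V →ₗ[ZMod r] V),
      Function.Injective L ∧ L w₁ = w₂ ∧ ∀ v, L (T v) = (T ^ i) (L v)) :
    Irreducible (cyclotomic s (ZMod r)) := by
  classical
  have hs : s.Prime := Fact.out
  have hdegΦ : (cyclotomic s (ZMod r)).natDegree = s - 1 := by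
    rw [natDegree_cyclotomic, Nat.totient_prime hs]
  have hΦ0 : cyclotomic s (ZMod r) ≠ 0 := cyclotomic_ne_zero s _
  rw [irreducible_iff]
  refine ⟨?_, ?_⟩
  · intro hu
    have h0 := natDegree_eq_zero_of_isUnit hu
    rw [hdegΦ] at h0
    have := hs.two_le
    omega
  · intro a b hab
    by_contra hcon
    push_neg at hcon
    obtain ⟨hua, hub⟩ := hcon
    have ha0 : a ≠ 0 := by rintro rfl; rw [zero_mul] at hab; exact hΦ0 hab
    have hb0 : b ≠ 0 := by rintro rfl; rw [mul_zero] at hab; exact hΦ0 hab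
    have hdeg : a.natDegree + b.natDegree = s - 1 := by
      rw [← natDegree_mul ha0 hb0, ← hab, hdegΦ]
    have hunit : ∀ f : (ZMod r)[X], f ≠ 0 → f.natDegree = 0 → IsUnit f := by
      intro f hf0 h0
      rw [eq_C_of_natDegree_eq_zero h0] at hf0 ⊢
      exact isUnit_C.mpr (IsUnit.mk0 _ (by intro hc; apply hf0; rw [hc, C_0]))
    have hda : a.natDegree ≠ 0 := fun h0 => hua (hunit a ha0 h0)
    have hdb : b.natDegree ≠ 0 := fun h0 => hub (hunit b hb0 h0)
    haveI : NeZero ((s : ℕ) : ZMod r) := ⟨by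
      intro h4
      rw [ZMod.natCast_eq_zero_iff] at h4
      exact hrs ((Nat.prime_dvd_prime_iff_eq Fact.out Fact.out).mp h4)⟩
    have hsq : Squarefree (a * b) := by rw [← hab]; exact squarefree_cyclotomic s (ZMod r)
    have hcop : IsCoprime a b := (squarefree_mul_iff.mp hsq).1.isCoprime
    obtain ⟨c, d, hcd⟩ := hcop
    have hcomm : ∀ f g : (ZMod r)[X], ∀ v, aeval T (f * g) v = aeval T f (aeval T g v) := by
      intro f g v; rw [map_mul]; rfl
    have hΦv : ∀ v, aeval T a (aeval T b v) = 0 := by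
      intro v; rw [← hcomm, ← hab, hΦ]; rfl
    have hΦv' : ∀ v, aeval T b (aeval T a v) = 0 := by
      intro v; rw [← hcomm, mul_comm, ← hab, hΦ]; rfl
    have hka : ∃ v, v ≠ 0 ∧ aeval T a v = 0 := by
      by_contra hno
      push_neg at hno
      have hb : aeval T b = 0 := by
        ext v
        by_contra hne
        exact hno _ hne (hΦv v)
      have := deg_ge hrs T hΦ H1 b hb0 hb
      omega
    have hkb : ∃ v, v ≠ 0 ∧ aeval T b v = 0 := by
      by_contra hno
      push_neg at hno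
      have ha : aeval T a = 0 := by
        ext v
        by_contra hne
        exact hno _ hne (hΦv' v)
      have := deg_ge hrs T hΦ H1 a ha0 ha
      omega
    obtain ⟨v, hv0, hva⟩ := hka
    obtain ⟨v', hv'0, hv'b⟩ := hkb
    set cyc : V → Set V := fun w => Set.range (fun f : (ZMod r)[X] => aeval T f w) with hcyc
    have h1eq : ∀ w, aeval T (c * a) w + aeval T (d * b) w = w := by
      intro w
      have h1 : aeval T (c * a + d * b) w = w := by rw [hcd]; simp
      rw [map_add] at h1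
      exact h1
    have hv_mem : aeval T (d * b) (v + v') = v := by
      rw [map_add, hcomm d b v', hv'b, map_zero, add_zero]
      have h1 := h1eq v
      rw [hcomm c a v, hva, map_zero, zero_add] at h1
      exact h1
    have hv'_mem : aeval T (c * a) (v + v') = v' := by
      rw [map_add, hcomm c a v, hva, map_zero, zero_add]
      have h1 := h1eq v'
      rw [hcomm d b v', hv'b, map_zero, add_zero] at h1
      exact h1
    have hsub : cyc v ⊆ cyc (v + v') := by
      rintro _ ⟨f, rfl⟩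
      refine ⟨f * (d * b), ?_⟩
      show aeval T (f * (d * b)) (v + v') = aeval T f v
      rw [hcomm, hv_mem]
    have hv'in : v' ∈ cyc (v + v') := ⟨c * a, hv'_mem⟩
    have hv'notin : v' ∉ cyc v := by
      rintro ⟨f, hf⟩
      have hf' : aeval T f v = v' := hf
      have ha' : aeval T a v' = 0 := by
        rw [← hf', ← hcomm, mul_comm, hcomm, hva, map_zero]
      apply hv'0
      have h1 := h1eq v'
      rw [hcomm c a v', ha', map_zero, hcomm d b v', hv'b, map_zero, add_zero] at h1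
      exact h1.symm
    have hne : v + v' ≠ 0 := by
      intro h0
      apply hv'notin
      refine ⟨-1, ?_⟩
      show aeval T (-1 : (ZMod r)[X]) v = v'
      rw [map_neg, map_one, LinearMap.neg_apply, Module.End.one_apply]
      exact (eq_neg_of_add_eq_zero_right h0).symm
    have hlt : (cyc v).ncard < (cyc (v + v')).ncard := by
      apply Set.ncard_lt_ncard _ (Set.toFinite _)
      exact ⟨hsub, fun hrev => hv'notin (hrev hv'in)⟩
    have hle : ∀ w₁ w₂ : V, w₁ ≠ 0 → w₂ ≠ 0 → (cyc w₁).ncard ≤ (cyc w₂).ncard := by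
      intro w₁ w₂ h1 h2
      obtain ⟨i, L, hLinj, hLw, hL⟩ := H2 w₁ w₂ h1 h2
      have himg : L '' (cyc w₁) ⊆ cyc w₂ := by
        rintro _ ⟨_, ⟨f, rfl⟩, rfl⟩
        refine ⟨f.comp (X ^ i), ?_⟩
        show aeval T (f.comp (X ^ i)) w₂ = L (aeval T f w₁)
        rw [intertwine L T (T ^ i) hL f w₁, hLw, aeval_comp]
        simp
      calc (cyc w₁).ncard = (L '' cyc w₁).ncard := (Set.ncard_image_of_injective _ hLinj).symm
        _ ≤ (cyc w₂).ncard := Set.ncard_le_ncard himg (Set.toFinite _)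
    have := hle (v + v') v hne hv0
    omega

end Cfsg.Agent.Lib.Helper6.CycMod
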