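import Mathlib
import Cfsg.Agent.S0001
import Cfsg.Prelude.Def_Transfer

namespace Cfsg.Agent.Lib.Helper6.TateAux

open Subgroup Pointwise

theorem mem_normalizer_of_conj_le {G : Type*} [Group G] (H : Subgroup G) [Finite H] (n : G)
    (h : ∀ x ∈ H, n * x * n⁻¹ ∈ H) : n ∈ normalizer (H : Set G) := by
  let φ : H → H := fun x => ⟨n * x.1 * n⁻¹, h x.1 x.2⟩
  have hinj : Function.Injective φ := by
    intro x y hxy
    have h1 : n * x.1 * n⁻¹ = n * y.1 * n⁻¹ := congrArg Subtype.val hxy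
    apply Subtype.ext
    have h2 := mul_right_cancel h1
    exact mul_left_cancel h2
  have hsurj : Function.Surjective φ := Finite.injective_iff_surjective.1 hinj
  rw [mem_normalizer_iff]
  intro x
  constructor
  · exact h x
  · intro hx
    obtain ⟨y, hy⟩ := hsurj ⟨n * x * n⁻¹, hx⟩
    have h1 : n * y.1 * n⁻¹ = n * x * n⁻¹ := congrArg Subtype.val hy
    have h2 := mul_left_cancel (mul_right_cancel h1)
    rw [← h2]; exact y.2

theorem tate_aux {Γ : Type*} [Group Γ] [Finite Γ] {p : ℕ} [Fact p.Prime] (S : Sylow p Γ)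
    (Q : Subgroup Γ) [hQn : Q.Normal] (hQS : Q ≤ (S : Subgroup Γ))
    (hnongen : ∀ K : Subgroup Γ, K ≤ (S : Subgroup Γ) → (S : Subgroup Γ) ≤ Q ⊔ K →
      (S : Subgroup Γ) ≤ K)
    (hcent : ∀ g ∈ normalizer ((S : Subgroup Γ) : Set Γ), ∀ x ∈ (S : Subgroup Γ),
      g * x * g⁻¹ * x⁻¹ ∈ Q) :
    Cfsg.HasNormalPComplement p Γ := by
  classical
  have hp : p.Prime := Fact.out
  set π := QuotientGroup.mk' Q with hπ
  have hπs : Function.Surjective π := QuotientGroup.mk'_surjective Q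
  set Sb : Sylow p (Γ ⧸ Q) := S.mapSurjective hπs with hSb
  have hSbc : (Sb : Subgroup (Γ ⧸ Q)) = (S : Subgroup Γ).map π := Sylow.coe_mapSurjective hπs S
  have hcomap : (Sb : Subgroup (Γ ⧸ Q)).comap π = (S : Subgroup Γ) := by
    rw [hSbc, Subgroup.comap_map_eq, QuotientGroup.ker_mk', sup_eq_left]; exact hQS
  have hNC : normalizer ((Sb : Subgroup (Γ ⧸ Q)) : Set (Γ ⧸ Q)) ≤
      centralizer ((Sb : Subgroup (Γ ⧸ Q)) : Set (Γ ⧸ Q)) := by
    intro gb hgb
    obtain ⟨g, rfl⟩ := hπs gb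
    have hg : g ∈ normalizer ((S : Subgroup Γ) : Set Γ) := by
      rw [mem_normalizer_iff] at hgb ⊢
      intro h
      have := hgb (π h)
      rw [← map_inv, ← map_mul, ← map_mul, ← Subgroup.mem_comap, ← Subgroup.mem_comap,
        hcomap] at this
      exact this
    rw [mem_centralizer_iff]
    intro sb hsb
    rw [SetLike.mem_coe, hSbc] at hsb
    obtain ⟨s, hs, rfl⟩ := Subgroup.mem_map.1 hsb
    have h1 := hcent g hg s hs
    have h2 : π (g * s * g⁻¹ * s⁻¹) = 1 := (QuotientGroup.eq_one_iff _).2 h1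
    rw [map_mul, map_mul, map_mul, map_inv, map_inv] at h2
    have h3 := mul_inv_eq_one.1 h2
    rw [mul_inv_eq_iff_eq_mul] at h3
    exact h3.symm
  set Lb := (MonoidHom.transferSylow Sb hNC).ker with hLb
  have hLbS : IsComplement' Lb (Sb : Subgroup (Γ ⧸ Q)) :=
    MonoidHom.ker_transferSylow_isComplement' Sb hNC
  set L : Subgroup Γ := Lb.comap π with hL
  haveI hLn : L.Normal := Subgroup.Normal.comap inferInstance π
  have hQL : Q ≤ L := by
    intro q hq
    rw [hL, Subgroup.mem_comap]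
    have : π q = 1 := (QuotientGroup.eq_one_iff q).2 hq
    rw [this]; exact one_mem _
  have hLS_sup : L ⊔ (S : Subgroup Γ) = ⊤ := by
    rw [← hcomap, hL, Subgroup.comap_sup_eq _ _ _ hπs, hLbS.sup_eq_top, Subgroup.comap_top]
  have hLS_inf : L ⊓ (S : Subgroup Γ) = Q := by
    rw [← hcomap, hL, ← Subgroup.comap_inf, hLbS.isCompl.inf_eq_bot, MonoidHom.comap_bot,
      QuotientGroup.ker_mk']
  -- cardinalities
  obtain ⟨kS, hkS⟩ := (IsPGroup.iff_card (p := p) (G := (S : Subgroup Γ))).1 S.isPGroup'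
  have hQd : Nat.card Q ∣ p ^ kS := hkS ▸ Subgroup.card_dvd_of_le hQS
  obtain ⟨kQ, -, hkQ⟩ := (Nat.dvd_prime_pow hp).1 hQd
  have hidx : L.index = Q.relIndex (S : Subgroup Γ) := by
    rw [← relIndex_top_right, ← hLS_sup, relIndex_sup_left, ← inf_relIndex_right, hLS_inf]
  have hrel : Q.relIndex (S : Subgroup Γ) * Nat.card Q = Nat.card (S : Subgroup Γ) := by
    have h1 := (Q.subgroupOf (S : Subgroup Γ)).index_mul_card
    have h2 : Nat.card (Q.subgroupOf (S : Subgroup Γ)) = Nat.card Q :=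
      Nat.card_congr (Subgroup.subgroupOfEquivOfLe hQS).toEquiv
    rw [h2] at h1
    exact h1
  have hcardL : Nat.card L = Nat.card Q * (S : Subgroup Γ).index := by
    have h1 : Nat.card L * L.index = Nat.card Γ := L.card_mul_index
    have h2 : Nat.card (S : Subgroup Γ) * (S : Subgroup Γ).index = Nat.card Γ :=
      (S : Subgroup Γ).card_mul_index
    rw [hidx] at h1
    rw [← hrel] at h2
    have hpos : 0 < Q.relIndex (S : Subgroup Γ) := by
      rcases Nat.eq_zero_or_pos (Q.relIndex (S : Subgroup Γ)) with h0 | h0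
      · rw [h0, zero_mul] at hrel
        exact absurd hrel.symm Nat.card_pos.ne'
      · exact h0
    have h3 : Q.relIndex (S : Subgroup Γ) * Nat.card L =
        Q.relIndex (S : Subgroup Γ) * (Nat.card Q * (S : Subgroup Γ).index) := by
      rw [mul_comm, h1, ← h2]; ring
    exact Nat.eq_of_mul_eq_mul_left hpos h3
  have hcopS : Nat.Coprime (p ^ kQ) (S : Subgroup Γ).index :=
    Nat.Coprime.pow_left _ ((Nat.Prime.coprime_iff_not_dvd hp).2 S.not_dvd_index)
  -- Schur–Zassenhaus inside L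
  set Q2 : Subgroup L := Q.subgroupOf L with hQ2
  haveI hQ2n : Q2.Normal := Subgroup.Normal.subgroupOf hQn L
  have hQ2c : Nat.card Q2 = Nat.card Q := Nat.card_congr (Subgroup.subgroupOfEquivOfLe hQL).toEquiv
  have hQ2i : Q2.index = (S : Subgroup Γ).index := by
    have h1 := Q2.card_mul_index
    rw [hQ2c, hcardL] at h1
    exact Nat.eq_of_mul_eq_mul_left Nat.card_pos h1
  have hcop2 : Nat.Coprime (Nat.card Q2) Q2.index := by
    rw [hQ2c, hQ2i, hkQ]; exact hcopS
  obtain ⟨H2, hH2⟩ := Subgroup.exists_right_complement'_of_coprime hcop2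
  have hH2c : Nat.card H2 = (S : Subgroup Γ).index := by
    rw [← hQ2i]; exact hH2.symm.index_eq_card.symm
  have hQ2solv : Group.IsSolvable Q2 := by
    have : IsPGroup p Q2 := IsPGroup.of_card (n := kQ) (by rw [hQ2c, hkQ])
    haveI := this.isNilpotent
    infer_instance
  set H : Subgroup Γ := H2.map L.subtype with hH
  have hHc : Nat.card H = (S : Subgroup Γ).index := by
    rw [hH, Subgroup.card_map_of_injective L.subtype_injective, hH2c]
  have hHL : H ≤ L := Subgroup.map_subtype_le _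
  -- Frattini argument
  have hfr : ∀ g : Γ, ∃ l ∈ L, l⁻¹ * g ∈ normalizer (H : Set Γ) := by
    intro g
    set Hg : Subgroup L := H2.map (MulAut.conjNormal g : MulAut L).toMonoidHom with hHg
    have hHgc : Nat.card Hg = Nat.card H2 :=
      Subgroup.card_map_of_injective (MulAut.conjNormal g : MulAut L).injective
    have hcompl : IsComplement' Q2 Hg := by
      apply isComplement'_of_coprime
      · rw [hHgc]; exact hH2.card_mul_card
      · rw [hHgc, hH2c, hQ2c, hkQ]; exact hcopS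
    obtain ⟨l, hl⟩ := Cfsg.Agent.S0001.result Q2 hcop2 (Or.inl hQ2solv) H2 Hg hH2 hcompl
    refine ⟨l.1, l.2, ?_⟩
    apply mem_normalizer_of_conj_le
    intro x hx
    obtain ⟨x2, hx2, rfl⟩ := Subgroup.mem_map.1 hx
    have h1 : (MulAut.conjNormal g : MulAut L) x2 ∈ Hg := Subgroup.mem_map_of_mem _ hx2
    rw [← hl] at h1
    obtain ⟨y2, hy2, hy⟩ := (Subgroup.mem_smul_pointwise_iff_exists _ _ _).1 h1
    -- hy : MulAut.conj l • y2 = conjNormal g x2
    have h3 : (l : Γ) * (y2 : Γ) * (l : Γ)⁻¹ = g * (x2 : Γ) * g⁻¹ := by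
      have := congrArg Subtype.val hy
      simpa [MulAut.smul_def] using this
    have h4 : (l : Γ)⁻¹ * g * (L.subtype x2) * ((l : Γ)⁻¹ * g)⁻¹ = (y2 : Γ) := by
      have : L.subtype x2 = (x2 : Γ) := rfl
      rw [this, mul_inv_rev, inv_inv]
      calc (l : Γ)⁻¹ * g * (x2 : Γ) * (g⁻¹ * (l : Γ))
          = (l : Γ)⁻¹ * (g * (x2 : Γ) * g⁻¹) * (l : Γ) := by group
        _ = (l : Γ)⁻¹ * ((l : Γ) * (y2 : Γ) * (l : Γ)⁻¹) * (l : Γ) := by rw [h3]
        _ = (y2 : Γ) := by group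
    rw [h4]
    exact Subgroup.mem_map_of_mem L.subtype hy2
  -- every element is q * n
  have hdec : ∀ g : Γ, ∃ q ∈ Q, ∃ n ∈ normalizer (H : Set Γ), g = q * n := by
    intro g
    obtain ⟨l, hlL, hln⟩ := hfr g
    obtain ⟨⟨a, b⟩, hab⟩ := hH2.2 ⟨l, hlL⟩
    have hab' : (a.1 : Γ) * (b.1 : Γ) = l := congrArg Subtype.val hab
    have ha : (a.1 : Γ) ∈ Q := a.2
    have hb : (b.1 : Γ) ∈ H := Subgroup.mem_map_of_mem L.subtype b.2
    refine ⟨a.1, ha, (b.1 : Γ) * (l⁻¹ * g), mul_mem (le_normalizer hb) hln, ?_⟩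
    rw [← hab']; group
  have hSN : (S : Subgroup Γ) ≤ normalizer (H : Set Γ) := by
    have h1 : (S : Subgroup Γ) ≤ Q ⊔ ((S : Subgroup Γ) ⊓ normalizer (H : Set Γ)) := by
      intro s hs
      obtain ⟨q, hq, n, hn, hsqn⟩ := hdec s
      have hnS : n ∈ (S : Subgroup Γ) := by
        have : n = q⁻¹ * s := by rw [hsqn]; group
        rw [this]; exact mul_mem (inv_mem (hQS hq)) hs
      rw [hsqn]
      exact mul_mem (mem_sup_left hq) (mem_sup_right ⟨hnS, hn⟩)
    exact (hnongen _ inf_le_left h1).trans inf_le_right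
  have hHnormal : H.Normal := by
    rw [← Subgroup.normalizer_eq_top_iff, eq_top_iff]
    intro g _
    obtain ⟨q, hq, n, hn, hsqn⟩ := hdec g
    rw [hsqn]
    exact mul_mem (hSN (hQS hq)) hn
  refine ⟨S, H, hHnormal, ?_⟩
  apply isComplement'_of_coprime
  · rw [hHc]; exact (S : Subgroup Γ).index_mul_card
  · rw [hHc, hkS]
    exact (Nat.Coprime.pow_left kS ((Nat.Prime.coprime_iff_not_dvd hp).2 S.not_dvd_index)).symm

end Cfsg.Agent.Lib.Helper6.TateAux
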