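import Mathlib
import Cfsg.Agent.Lib.Helper1.UniqP
import Cfsg.Agent.Lib.Helper6.TateAux
import Cfsg.Prelude.Def_Transfer

namespace Cfsg.Agent.Lib.Helper6.EqOrdConj

open Subgroup Pointwise

theorem key' {G : Type*} [Group G] [Finite G] {p : ℕ} [Fact p.Prime]
    (hC : ∀ H K : Subgroup G, IsPGroup p H → IsPGroup p K → Nat.card H = Nat.card K →
      ∃ g : G, K = H.map (MulAut.conj g).toMonoidHom) (P : Sylow p G) :
    (∀ x ∈ (P : Subgroup G), x ^ p = 1) ∨
    (∀ H K : Subgroup ↥(P : Subgroup G), Nat.card H = p → Nat.card K = p → H = K) := by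
  classical
  have hp : p.Prime := Fact.out
  by_contra hcon
  push_neg at hcon
  obtain ⟨⟨x, hxP, hx⟩, H, K, hH, hK, hHK⟩ := hcon
  -- element of order p^2
  obtain ⟨k, hk⟩ : ∃ k : ℕ, orderOf x = p ^ k := by
    obtain ⟨k, hk⟩ := (IsPGroup.iff_orderOf.1 P.isPGroup') ⟨x, hxP⟩
    exact ⟨k, by rw [← hk, Subgroup.orderOf_mk]⟩
  have hk2 : 2 ≤ k := by
    by_contra hlt
    apply hx
    have : orderOf x ∣ p := by
      rw [hk]
      have : k ≤ 1 := by omega
      calc p ^ k ∣ p ^ 1 := pow_dvd_pow p this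
        _ = p := pow_one p
    exact orderOf_dvd_iff_pow_eq_one.1 this
  set c := x ^ (p ^ (k - 2)) with hc
  have hoc : orderOf c = p ^ 2 := by
    have h0 : orderOf x ≠ 0 := (orderOf_pos x).ne'
    have hd : p ^ 2 ∣ orderOf x := by rw [hk]; exact pow_dvd_pow p hk2
    have := orderOf_pow_orderOf_div (x := x) (n := p ^ 2) h0 hd
    have hdiv : orderOf x / p ^ 2 = p ^ (k - 2) := by
      rw [hk]
      exact Nat.pow_div hk2 hp.pos
    rwa [hdiv] at this
  have hcC : Nat.card (zpowers c) = p ^ 2 := by rw [Nat.card_zpowers, hoc]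
  -- central element of order p in P
  haveI : Nontrivial ↥(P : Subgroup G) := by
    have h1 : 1 < Nat.card H := by rw [hH]; exact hp.one_lt
    have h2 : Nat.card H ≤ Nat.card ↥(P : Subgroup G) :=
      Nat.card_le_card_of_injective _ H.subtype_injective
    exact Finite.one_lt_card_iff_nontrivial.1 (lt_of_lt_of_le h1 h2)
  have hcen := IsPGroup.center_nontrivial (P.isPGroup')
  obtain ⟨⟨z, hz⟩, hz1⟩ := exists_ne (1 : center ↥(P : Subgroup G))
  have hz1' : z ≠ 1 := fun h => hz1 (Subtype.ext h)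
  obtain ⟨j, hj⟩ := (IsPGroup.iff_orderOf.1 P.isPGroup') z
  have hj1 : 1 ≤ j := by
    by_contra hlt
    have : j = 0 := by omega
    rw [this, pow_zero, orderOf_eq_one_iff] at hj
    exact hz1' hj
  set z' := z ^ (p ^ (j - 1)) with hz'
  have hoz' : orderOf z' = p := by
    have h0 : orderOf z ≠ 0 := (orderOf_pos z).ne'
    have hd : p ∣ orderOf z := by rw [hj]; exact dvd_pow_self p (by omega)
    have := orderOf_pow_orderOf_div (x := z) (n := p) h0 hd
    have hdiv : orderOf z / p = p ^ (j - 1) := by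
      rw [hj]
      conv_lhs => rw [show p ^ j / p = p ^ j / p ^ 1 by rw [pow_one]]
      exact Nat.pow_div hj1 hp.pos
    rwa [hdiv] at this
  have hz'c : z' ∈ center ↥(P : Subgroup G) := pow_mem hz _
  set Z0 : Subgroup ↥(P : Subgroup G) := zpowers z' with hZ0
  have hZ0c : Nat.card Z0 = p := by rw [hZ0, Nat.card_zpowers, hoz']
  obtain ⟨A, hA, hAZ⟩ : ∃ A : Subgroup ↥(P : Subgroup G), Nat.card A = p ∧ A ≠ Z0 := by
    by_cases h : H = Z0
    · exact ⟨K, hK, fun h' => hHK (h.trans h'.symm)⟩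
    · exact ⟨H, hH, h⟩
  have hdisj : A ⊓ Z0 = ⊥ := by
    have hd : Nat.card (A ⊓ Z0 : Subgroup ↥(P : Subgroup G)) ∣ p := by
      have := Subgroup.card_dvd_of_le (inf_le_left : A ⊓ Z0 ≤ A)
      rwa [hA] at this
    rcases (Nat.dvd_prime hp).1 hd with h1 | h1
    · exact Subgroup.card_eq_one.1 h1
    · exfalso
      have e1 : A ⊓ Z0 = A := Subgroup.eq_of_le_of_card_ge inf_le_left (by rw [h1, hA])
      have e2 : A ⊓ Z0 = Z0 := Subgroup.eq_of_le_of_card_ge inf_le_right (by rw [h1, hZ0c])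
      exact hAZ (e1.symm.trans e2)
  have hcomm : ∀ (m : A) (n : Z0), Commute (A.subtype m) (Z0.subtype n) := by
    intro m n
    have hn : (n : ↥(P : Subgroup G)) ∈ center ↥(P : Subgroup G) := by
      obtain ⟨i, hi⟩ := mem_zpowers_iff.1 n.2
      rw [← hi]; exact zpow_mem hz'c i
    exact (Subgroup.mem_center_iff.1 hn (m : ↥(P : Subgroup G)))
  set f : A × Z0 →* ↥(P : Subgroup G) := A.subtype.noncommCoprod Z0.subtype hcomm with hf
  have hfinj : Function.Injective f := by
    rw [hf, MonoidHom.noncommCoprod_injective]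
    refine ⟨A.subtype_injective, Z0.subtype_injective, ?_⟩
    rw [Subgroup.range_subtype, Subgroup.range_subtype, disjoint_iff]
    exact hdisj
  have hEc : Nat.card f.range = p ^ 2 := by
    rw [← Nat.card_congr (MonoidHom.ofInjective hfinj).toEquiv, Nat.card_prod, hA, hZ0c, sq]
  have hEexp : ∀ y ∈ f.range, y ^ p = 1 := by
    rintro _ ⟨⟨a, n⟩, rfl⟩
    have ha : a ^ p = 1 := by
      have := pow_card_eq_one' (G := A) (x := a)
      rwa [hA] at this
    have hn : n ^ p = 1 := by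
      have := pow_card_eq_one' (G := Z0) (x := n)
      rwa [hZ0c] at this
    rw [← map_pow, Prod.pow_mk, ha, hn]
    exact map_one f
  have hEcomm : ∀ y₁ ∈ f.range, ∀ y₂ ∈ f.range, y₁ * y₂ = y₂ * y₁ := by
    rintro _ ⟨⟨a₁, n₁⟩, rfl⟩ _ ⟨⟨a₂, n₂⟩, rfl⟩
    haveI : Fact p.Prime := ⟨hp⟩
    haveI : IsCyclic A := isCyclic_of_prime_card hA
    haveI : IsCyclic Z0 := isCyclic_of_prime_card hZ0c
    rw [← map_mul, ← map_mul]
    congr 1
    refine Prod.ext ?_ ?_
    · exact (IsCyclic.commutative).is_comm.comm a₁ a₂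
    · exact (IsCyclic.commutative).is_comm.comm n₁ n₂
  -- transport to G
  set E' : Subgroup G := f.range.map (P : Subgroup G).subtype with hE'
  have hE'c : Nat.card E' = p ^ 2 := by
    rw [hE', Subgroup.card_map_of_injective (Subgroup.subtype_injective _), hEc]
  obtain ⟨g, hg⟩ := hC E' (zpowers c) (IsPGroup.of_card (n := 2) hE'c)
    (IsPGroup.of_card (n := 2) hcC) (by rw [hE'c, hcC])
  have hcmem : c ∈ E'.map (MulAut.conj g).toMonoidHom := hg ▸ mem_zpowers c
  obtain ⟨e, he, hec⟩ := Subgroup.mem_map.1 hcmem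
  obtain ⟨y, hy, hye⟩ := Subgroup.mem_map.1 he
  have hep : e ^ p = 1 := by
    rw [← hye, ← map_pow, hEexp y hy, map_one]
  have hcp : c ^ p = 1 := by
    rw [← hec, ← map_pow, hep, map_one]
  have : p ^ 2 ∣ p := hoc ▸ orderOf_dvd_of_pow_eq_one hcp
  have h2 : p ^ 2 ≤ p := Nat.le_of_dvd hp.pos this
  have h3 : p < p ^ 2 := by
    have := hp.one_lt
    nlinarith
  omega

theorem card_sup {Q : Type*} [Group Q] [Finite Q] (W Z : Subgroup Q)
    (hZW : Z ≤ normalizer (W : Set Q)) (hdisj : W ⊓ Z = ⊥) :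
    Nat.card (W ⊔ Z : Subgroup Q) = Nat.card W * Nat.card Z := by
  set F : Subgroup Q := W ⊔ Z with hF
  have hWF : W ≤ F := le_sup_left
  have hZF : Z ≤ F := le_sup_right
  have hFN : F ≤ normalizer (W : Set Q) := sup_le le_normalizer hZW
  haveI hWn : (W.subgroupOf F).Normal := normal_subgroupOf_of_le_normalizer hFN
  set K : Subgroup F := W.subgroupOf F with hK
  set H : Subgroup F := Z.subgroupOf F with hH
  have hd : Disjoint K H := by
    rw [disjoint_iff, eq_bot_iff]
    intro x hx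
    obtain ⟨h1, h2⟩ := mem_inf.1 hx
    have h3 : (x : Q) ∈ W ⊓ Z := mem_inf.2 ⟨mem_subgroupOf.1 h1, mem_subgroupOf.1 h2⟩
    rw [hdisj, mem_bot] at h3
    rw [mem_bot]
    exact Subtype.ext h3
  have hmul : (K : Set F) * (H : Set F) = Set.univ := by
    rw [← normal_mul, hK, hH, ← subgroupOf_sup hWF hZF, subgroupOf_self]; rfl
  have hcompl : IsComplement' K H := isComplement'_of_disjoint_and_mul_eq_univ hd hmul
  have h1 := hcompl.card_mul
  have hKc : Nat.card K = Nat.card W := Nat.card_congr (subgroupOfEquivOfLe hWF).toEquiv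
  have hHc : Nat.card H = Nat.card Z := Nat.card_congr (subgroupOfEquivOfLe hZF).toEquiv
  rw [← hKc, ← hHc, h1]

theorem inf_zpowers {Q : Type*} [Group Q] [Finite Q] {p : ℕ} [Fact p.Prime] (W : Subgroup Q)
    (v : Q) (hv : orderOf v = p) (hvW : v ∉ W) : W ⊓ zpowers v = ⊥ := by
  have hp : p.Prime := Fact.out
  have hd : Nat.card (W ⊓ zpowers v : Subgroup Q) ∣ p := by
    have := Subgroup.card_dvd_of_le (inf_le_right : W ⊓ zpowers v ≤ zpowers v)
    rwa [Nat.card_zpowers, hv] at this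
  rcases (Nat.dvd_prime hp).1 hd with h1 | h1
  · exact Subgroup.card_eq_one.1 h1
  · exfalso
    have e2 : W ⊓ zpowers v = zpowers v :=
      Subgroup.eq_of_le_of_card_ge inf_le_right (by rw [h1, Nat.card_zpowers, hv])
    apply hvW
    have : v ∈ W ⊓ zpowers v := by rw [e2]; exact mem_zpowers v
    exact (mem_inf.1 this).1

theorem card_sup_zpowers {Q : Type*} [Group Q] [Finite Q] {p : ℕ} [Fact p.Prime]
    (W : Subgroup Q) (v : Q) (hv : orderOf v = p) (hvW : v ∉ W)
    (hvN : v ∈ normalizer (W : Set Q)) :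
    Nat.card (W ⊔ zpowers v : Subgroup Q) = Nat.card W * p := by
  rw [card_sup W (zpowers v) (zpowers_le.2 hvN) (inf_zpowers W v hv hvW), Nat.card_zpowers, hv]

theorem comm_sup {Q : Type*} [Group Q] (A B : Subgroup Q)
    (hA : ∀ a ∈ A, ∀ b ∈ A, a * b = b * a) (hB : ∀ a ∈ B, ∀ b ∈ B, a * b = b * a)
    (hAB : ∀ a ∈ A, ∀ b ∈ B, a * b = b * a) :
    ∀ a ∈ A ⊔ B, ∀ b ∈ A ⊔ B, a * b = b * a := by
  have h1 : A ⊔ B ≤ centralizer (A : Set Q) := by
    refine sup_le ?_ ?_
    · intro a ha; rw [mem_centralizer_iff]; intro b hb; exact hA b hb a ha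
    · intro b hb; rw [mem_centralizer_iff]; intro a ha; exact hAB a ha b hb
  have h2 : A ⊔ B ≤ centralizer (B : Set Q) := by
    refine sup_le ?_ ?_
    · intro a ha; rw [mem_centralizer_iff]; intro b hb; exact (hAB a ha b hb).symm
    · intro a ha; rw [mem_centralizer_iff]; intro b hb; exact hB b hb a ha
  have h3 : A ⊔ B ≤ centralizer ((A ⊔ B : Subgroup Q) : Set Q) := by
    refine sup_le ?_ ?_
    · rw [le_centralizer_iff]; exact h1
    · rw [le_centralizer_iff]; exact h2
  intro a ha b hb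
  exact mem_centralizer_iff.1 (h3 hb) a ha

theorem comm_zpowers {Q : Type*} [Group Q] (v : Q) :
    ∀ a ∈ zpowers v, ∀ b ∈ zpowers v, a * b = b * a := by
  intro a ha b hb
  obtain ⟨i, rfl⟩ := mem_zpowers_iff.1 ha
  obtain ⟨j, rfl⟩ := mem_zpowers_iff.1 hb
  rw [← zpow_add, ← zpow_add, add_comm]

theorem order_p {Q : Type*} [Group Q] {p : ℕ} [Fact p.Prime] (x : Q) (hx : x ^ p = 1)
    (hx1 : x ≠ 1) : orderOf x = p := by
  have hp : p.Prime := Fact.out
  rcases (Nat.dvd_prime hp).1 (orderOf_dvd_of_pow_eq_one hx) with h | h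
  · exact absurd (orderOf_eq_one_iff.1 h) hx1
  · exact h

theorem exists_nonab {Q : Type*} [Group Q] [Finite Q] {p : ℕ} [Fact p.Prime]
    (hQ : IsPGroup p Q) (hexp : ∀ x : Q, x ^ p = 1) (hna : ∃ a b : Q, a * b ≠ b * a) :
    ∃ B : Subgroup Q, Nat.card B = p ^ 3 ∧ ∃ a ∈ B, ∃ b ∈ B, a * b ≠ b * a := by
  classical
  have hp : p.Prime := Fact.out
  haveI : Group.IsNilpotent Q := hQ.isNilpotent
  have hCA : ¬ (⊤ : Subgroup Q) ≤ center Q := by
    intro h
    obtain ⟨a, b, hab⟩ := hna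
    exact hab ((mem_center_iff.1 (h (mem_top b)) a))
  obtain ⟨x, -, hxZ, hxc⟩ := Cfsg.Agent.Lib.Helper1.UniqP.nil_step (center Q) ⊤ hCA
  have hy : ∃ y : Q, y * x ≠ x * y := by
    by_contra hcon
    push_neg at hcon
    exact hxZ (mem_center_iff.2 hcon)
  obtain ⟨y, hyx⟩ := hy
  set c := x * y * x⁻¹ * y⁻¹ with hc
  have hcZ : c ∈ center Q := hxc y
  have hc1 : c ≠ 1 := by
    intro h
    apply hyx
    have : x * y = y * x := by
      have h2 : x * y = c * (y * x) := by rw [hc]; group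
      rw [h2, h, one_mul]
    exact this.symm
  have hoc : orderOf c = p := order_p c (hexp c) hc1
  have hx1 : x ≠ 1 := fun h => hxZ (h ▸ one_mem _)
  have hox : orderOf x = p := order_p x (hexp x) hx1
  have hy1 : y ≠ 1 := fun h => hyx (by rw [h, one_mul, mul_one])
  have hoy : orderOf y = p := order_p y (hexp y) hy1
  set M0 : Subgroup Q := zpowers c with hM0
  have hM0Z : M0 ≤ center Q := zpowers_le.2 hcZ
  have hM0c : Nat.card M0 = p := by rw [hM0, Nat.card_zpowers, hoc]
  have hxM0 : x ∉ M0 := fun h => hxZ (hM0Z h)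
  have hxN : x ∈ normalizer (M0 : Set Q) := by
    apply Cfsg.Agent.Lib.Helper6.TateAux.mem_normalizer_of_conj_le
    intro m hm
    have := mem_center_iff.1 (hM0Z hm) x
    rw [this, mul_inv_cancel_right]
    exact hm
  set M : Subgroup Q := M0 ⊔ zpowers x with hM
  have hMc : Nat.card M = p * p := by
    rw [hM, card_sup_zpowers M0 x hox hxM0 hxN, hM0c]
  have hMcomm : ∀ a ∈ M, ∀ b ∈ M, a * b = b * a := by
    apply comm_sup M0 (zpowers x) (comm_zpowers c) (comm_zpowers x)
    intro a ha b hb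
    exact (mem_center_iff.1 (hM0Z ha) b).symm
  have hxM : x ∈ M := (le_sup_right : zpowers x ≤ M) (mem_zpowers x)
  have hcM : c ∈ M := (le_sup_left : M0 ≤ M) (mem_zpowers c)
  have hyM : y ∉ M := fun h => hyx (hMcomm y h x hxM)
  have hyN : y ∈ normalizer (M : Set Q) := by
    apply Cfsg.Agent.Lib.Helper6.TateAux.mem_normalizer_of_conj_le
    have hle : M ≤ M.comap (MulAut.conj y).toMonoidHom := by
      rw [hM]
      refine sup_le ?_ ?_
      · rw [hM0, zpowers_le]
        show (MulAut.conj y) c ∈ M0 ⊔ zpowers x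
        rw [MulAut.conj_apply]
        have := mem_center_iff.1 hcZ y
        rw [this, mul_inv_cancel_right]
        exact hcM
      · rw [zpowers_le]
        show (MulAut.conj y) x ∈ M0 ⊔ zpowers x
        rw [MulAut.conj_apply]
        have h2 : y * x * y⁻¹ = c⁻¹ * x := by rw [hc]; group
        rw [h2]
        exact mul_mem (inv_mem hcM) hxM
    intro m hm
    exact hle hm
  refine ⟨M ⊔ zpowers y, ?_, x, (le_sup_left : M ≤ M ⊔ zpowers y) hxM, y,
    (le_sup_right : zpowers y ≤ M ⊔ zpowers y) (mem_zpowers y), fun h => hyx h.symm⟩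
  rw [card_sup_zpowers M y hoy hyM hyN, hMc]
  ring

theorem exists_ab {Q : Type*} [Group Q] [Finite Q] {p : ℕ} [Fact p.Prime]
    (hQ : IsPGroup p Q) (hexp : ∀ x : Q, x ^ p = 1) (hcard : p ^ 4 ≤ Nat.card Q) :
    ∃ E : Subgroup Q, Nat.card E = p ^ 3 ∧ ∀ a ∈ E, ∀ b ∈ E, a * b = b * a := by
  classical
  have hp : p.Prime := Fact.out
  haveI : Group.IsNilpotent Q := hQ.isNilpotent
  have hpp : p < p ^ 4 := by
    calc p = p ^ 1 := (pow_one p).symm
      _ < p ^ 4 := Nat.pow_lt_pow_right hp.one_lt (by norm_num)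
  haveI : Nontrivial Q := by
    apply Finite.one_lt_card_iff_nontrivial.1
    have := hp.one_lt
    omega
  have hcen := IsPGroup.center_nontrivial hQ
  obtain ⟨⟨u, hu⟩, hu1⟩ := exists_ne (1 : center Q)
  have hu1' : u ≠ 1 := fun h => hu1 (Subtype.ext h)
  have hou : orderOf u = p := order_p u (hexp u) hu1'
  set E1 : Subgroup Q := zpowers u with hE1
  have hE1Z : E1 ≤ center Q := zpowers_le.2 hu
  have hE1c : Nat.card E1 = p := by rw [hE1, Nat.card_zpowers, hou]
  haveI hE1n : E1.Normal := by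
    constructor
    intro n hn g
    have := mem_center_iff.1 (hE1Z hn) g
    rw [this, mul_inv_cancel_right]
    exact hn
  have hCA : ¬ (⊤ : Subgroup Q) ≤ E1 := by
    intro h
    have h1 : Nat.card (⊤ : Subgroup Q) ≤ Nat.card E1 := Subgroup.card_le_of_le h
    rw [Subgroup.card_top, hE1c] at h1
    omega
  obtain ⟨v, -, hvE1, hvc⟩ := Cfsg.Agent.Lib.Helper1.UniqP.nil_step E1 ⊤ hCA
  have hv1 : v ≠ 1 := fun h => hvE1 (h ▸ one_mem _)
  have hov : orderOf v = p := order_p v (hexp v) hv1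
  have hvN : v ∈ normalizer (E1 : Set Q) := by rw [normalizer_eq_top]; exact mem_top v
  set E2 : Subgroup Q := E1 ⊔ zpowers v with hE2
  have hE2c : Nat.card E2 = p * p := by
    rw [hE2, card_sup_zpowers E1 v hov hvE1 hvN, hE1c]
  have hE2comm : ∀ a ∈ E2, ∀ b ∈ E2, a * b = b * a := by
    apply comm_sup E1 (zpowers v) (comm_zpowers u) (comm_zpowers v)
    intro a ha b hb
    exact (mem_center_iff.1 (hE1Z ha) b).symm
  set C : Subgroup Q := centralizer {v} with hCdef
  have hidx : C.index ≤ p := by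
    rw [Subgroup.index_eq_card]
    let f : Q ⧸ C → E1 := Quotient.lift (s := QuotientGroup.leftRel C)
      (fun g => (⟨v * g * v⁻¹ * g⁻¹, hvc g⟩ : E1)) (by
        intro a b hab
        have hab' : a⁻¹ * b ∈ C := QuotientGroup.leftRel_apply.1 hab
        apply Subtype.ext
        show v * a * v⁻¹ * a⁻¹ = v * b * v⁻¹ * b⁻¹
        set t := a⁻¹ * b with ht
        have h1 : v * t = t * v := mem_centralizer_iff.1 hab' v (Set.mem_singleton v)
        have hb : b = a * t := by rw [ht]; group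
        have h3 : t * v⁻¹ * t⁻¹ = v⁻¹ := by
          have h4 : t * v⁻¹ = v⁻¹ * t := by
            calc t * v⁻¹ = v⁻¹ * (v * t) * v⁻¹ := by group
              _ = v⁻¹ * (t * v) * v⁻¹ := by rw [h1]
              _ = v⁻¹ * t := by group
          rw [h4, mul_inv_cancel_right]
        calc v * a * v⁻¹ * a⁻¹ = v * a * (t * v⁻¹ * t⁻¹) * a⁻¹ := by rw [h3]
          _ = v * (a * t) * v⁻¹ * (a * t)⁻¹ := by group
          _ = v * b * v⁻¹ * b⁻¹ := by rw [← hb])
    have hf : Function.Injective f := by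
      intro q1 q2
      obtain ⟨a, rfl⟩ := QuotientGroup.mk_surjective q1
      obtain ⟨b, rfl⟩ := QuotientGroup.mk_surjective q2
      intro hab
      have hab' : v * a * v⁻¹ * a⁻¹ = v * b * v⁻¹ * b⁻¹ := congrArg Subtype.val hab
      rw [QuotientGroup.eq]
      show a⁻¹ * b ∈ centralizer {v}
      rw [mem_centralizer_iff]
      intro h hh
      rw [Set.mem_singleton_iff] at hh
      rw [hh]
      have h1 : a * v⁻¹ * a⁻¹ = b * v⁻¹ * b⁻¹ := by
        have := congrArg (fun z => v⁻¹ * z) hab'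
        simpa [mul_assoc] using this
      have h2 : v⁻¹ * (a⁻¹ * b) = a⁻¹ * b * v⁻¹ := by
        calc v⁻¹ * (a⁻¹ * b) = a⁻¹ * (a * v⁻¹ * a⁻¹) * b := by group
          _ = a⁻¹ * (b * v⁻¹ * b⁻¹) * b := by rw [h1]
          _ = a⁻¹ * b * v⁻¹ := by group
      calc v * (a⁻¹ * b) = v * (a⁻¹ * b * v⁻¹) * v := by group
        _ = v * (v⁻¹ * (a⁻¹ * b)) * v := by rw [h2]
        _ = a⁻¹ * b * v := by group
    have := Nat.card_le_card_of_injective f hf
    rwa [hE1c] at this
  have hCc : p ^ 3 ≤ Nat.card C := by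
    have h1 := Subgroup.card_mul_index C
    have h2 : p ^ 4 ≤ Nat.card C * p := by
      calc p ^ 4 ≤ Nat.card Q := hcard
        _ = Nat.card C * C.index := h1.symm
        _ ≤ Nat.card C * p := Nat.mul_le_mul_left _ hidx
    have h3 : p ^ 4 = p ^ 3 * p := by ring
    rw [h3] at h2
    exact Nat.le_of_mul_le_mul_right h2 hp.pos
  have hCE2 : ¬ C ≤ E2 := by
    intro h
    have h1 : Nat.card C ≤ Nat.card E2 := Subgroup.card_le_of_le h
    rw [hE2c] at h1
    have : p * p < p ^ 3 := by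
      have := hp.one_lt
      have h4 : p ^ 3 = p * p * p := by ring
      rw [h4]; nlinarith [hp.pos]
    omega
  obtain ⟨w, hwC, hwE2⟩ := SetLike.not_le_iff_exists.1 hCE2
  have hw1 : w ≠ 1 := fun h => hwE2 (h ▸ one_mem _)
  have how : orderOf w = p := order_p w (hexp w) hw1
  have hwv : v * w = w * v := mem_centralizer_iff.1 hwC v (Set.mem_singleton v)
  have hE2w : E2 ≤ centralizer {w} := by
    rw [hE2]
    refine sup_le ?_ ?_
    · intro a ha
      rw [mem_centralizer_iff]
      intro h hh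
      rw [Set.mem_singleton_iff] at hh
      rw [hh]
      exact (mem_center_iff.1 (hE1Z ha) w)
    · rw [zpowers_le, mem_centralizer_iff]
      intro h hh
      rw [Set.mem_singleton_iff] at hh
      rw [hh]
      exact hwv.symm
  have hwN : w ∈ normalizer (E2 : Set Q) := by
    apply Cfsg.Agent.Lib.Helper6.TateAux.mem_normalizer_of_conj_le
    intro m hm
    have := mem_centralizer_iff.1 (hE2w hm) w (Set.mem_singleton w)
    rw [this, mul_inv_cancel_right]
    exact hm
  refine ⟨E2 ⊔ zpowers w, ?_, ?_⟩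
  · rw [card_sup_zpowers E2 w how hwE2 hwN, hE2c]; ring
  · apply comm_sup E2 (zpowers w) hE2comm (comm_zpowers w)
    intro a ha b hb
    obtain ⟨i, rfl⟩ := mem_zpowers_iff.1 hb
    have h1 : w * a = a * w := mem_centralizer_iff.1 (hE2w ha) w (Set.mem_singleton w)
    exact ((Commute.zpow_right (show Commute a w from h1.symm) i)).eq

theorem quat_small {G : Type*} [Group G] [Finite G]
    (hC : ∀ H K : Subgroup G, IsPGroup 2 H → IsPGroup 2 K → Nat.card H = Nat.card K →
      ∃ g : G, K = H.map (MulAut.conj g).toMonoidHom) (P : Sylow 2 G) (n : ℕ)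
    (e : ↥(P : Subgroup G) ≃* QuaternionGroup (2 ^ n)) : n ≤ 1 := by
  classical
  by_contra hn
  push_neg at hn
  obtain ⟨m, rfl⟩ : ∃ m, n = m + 2 := ⟨n - 2, by omega⟩
  haveI : NeZero (2 ^ (m + 2)) := ⟨by positivity⟩
  set a1 : QuaternionGroup (2 ^ (m + 2)) := QuaternionGroup.a 1 with ha1
  have hoa : orderOf a1 = 2 * 2 ^ (m + 2) := QuaternionGroup.orderOf_a_one
  set c0 := a1 ^ (2 ^ m) with hc0
  have hoc0 : orderOf c0 = 8 := by
    rw [hc0, orderOf_pow_of_dvd (by positivity) (by rw [hoa]; exact ⟨8, by ring⟩), hoa]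
    have : 2 * 2 ^ (m + 2) = 8 * 2 ^ m := by ring
    rw [this, Nat.mul_div_cancel _ (by positivity)]
  set x1 : ↥(P : Subgroup G) := e.symm (QuaternionGroup.xa 0) with hx1
  have hox1 : orderOf x1 = 4 := by
    rw [hx1, MulEquiv.orderOf_eq]
    exact QuaternionGroup.orderOf_xa 0
  set c1 : ↥(P : Subgroup G) := e.symm c0 with hc1
  have hoc1 : orderOf c1 = 8 := by
    rw [hc1, MulEquiv.orderOf_eq]; exact hoc0
  have hPc : Nat.card ↥(P : Subgroup G) = 2 ^ (m + 4) := by
    rw [Nat.card_congr e.toEquiv, Nat.card_eq_fintype_card, QuaternionGroup.card]; ring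
  have h8 : 2 ^ (2 + 1) ∣ Nat.card ↥(P : Subgroup G) := by
    rw [hPc]; exact pow_dvd_pow 2 (by omega)
  have hH : Nat.card (zpowers x1) = 2 ^ 2 := by rw [Nat.card_zpowers, hox1]; norm_num
  obtain ⟨K', hK'c, hK'⟩ := Sylow.exists_subgroup_card_pow_succ h8 hH
  set K : Subgroup G := K'.map (P : Subgroup G).subtype with hK
  have hKc : Nat.card K = 2 ^ 3 := by
    rw [hK, Subgroup.card_map_of_injective (Subgroup.subtype_injective _), hK'c]
  set c : G := (c1 : G) with hcdef
  have hoc : orderOf c = 8 := by rw [hcdef, Subgroup.orderOf_coe, hoc1]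
  have hZc : Nat.card (zpowers c) = 2 ^ 3 := by rw [Nat.card_zpowers, hoc]; norm_num
  obtain ⟨g, hg⟩ := hC K (zpowers c) (IsPGroup.of_card (n := 3) hKc)
    (IsPGroup.of_card (n := 3) hZc) (by rw [hKc, hZc])
  have hcmem : c ∈ K.map (MulAut.conj g).toMonoidHom := hg ▸ mem_zpowers c
  obtain ⟨k0, hk0, hk0c⟩ := Subgroup.mem_map.1 hcmem
  obtain ⟨k', hk', hk'k0⟩ := Subgroup.mem_map.1 hk0
  have hok0 : orderOf k0 = 8 := by
    rw [← hoc, ← hk0c]
    exact (MulEquiv.orderOf_eq (MulAut.conj g) k0).symm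
  have hok' : orderOf k' = 8 := by
    rw [← hok0, ← hk'k0]; exact (Subgroup.orderOf_coe k').symm
  have hzk : zpowers k' = K' := by
    apply Subgroup.eq_of_le_of_card_ge (zpowers_le.2 hk')
    rw [hK'c, Nat.card_zpowers, hok']; norm_num
  have hx1K : x1 ∈ zpowers k' := by rw [hzk]; exact hK' (mem_zpowers x1)
  obtain ⟨j, hj⟩ := mem_zpowers_iff.1 hx1K
  have hek : ∃ i, e k' = QuaternionGroup.a i := by
    rcases hq : e k' with i | i
    · exact ⟨i, rfl⟩
    · exfalso
      have h1 : orderOf (e k') = 8 := by rw [MulEquiv.orderOf_eq]; exact hok'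
      rw [hq, QuaternionGroup.orderOf_xa] at h1
      norm_num at h1
  obtain ⟨i, hi⟩ := hek
  have h2 : e x1 = QuaternionGroup.xa 0 := by rw [hx1]; exact e.apply_symm_apply _
  have h3 : e x1 = (QuaternionGroup.a i) ^ j := by rw [← hj, map_zpow, hi]
  let S : Subgroup (QuaternionGroup (2 ^ (m + 2))) :=
    { carrier := {g | ∃ l, g = QuaternionGroup.a l}
      mul_mem' := by
        rintro _ _ ⟨l1, rfl⟩ ⟨l2, rfl⟩
        exact ⟨l1 + l2, QuaternionGroup.a_mul_a l1 l2⟩
      one_mem' := ⟨0, QuaternionGroup.a_zero.symm⟩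
      inv_mem' := by
        rintro _ ⟨l, rfl⟩
        exact ⟨-l, rfl⟩ }
  have h4 : (QuaternionGroup.a i) ^ j ∈ S := zpow_mem (⟨i, rfl⟩ : QuaternionGroup.a i ∈ S) j
  obtain ⟨l, hl⟩ := h4
  rw [h2, hl] at h3
  cases h3

theorem main {G : Type*} [Group G] [Finite G]
    {p : ℕ} [Fact p.Prime]
    (hC : ∀ H K : Subgroup G, IsPGroup p H → IsPGroup p K → Nat.card H = Nat.card K →
      ∃ g : G, K = H.map (MulAut.conj g).toMonoidHom) (P : Sylow p G) :
    IsCyclic P ∨ Cfsg.IsElementaryAbelian p (P : Subgroup G) ∨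
      (p = 2 ∧ Nonempty ((P : Subgroup G) ≃* QuaternionGroup 2)) ∨
      (p ≠ 2 ∧ ¬ IsMulCommutative P ∧ Nat.card P = p ^ 3 ∧ Monoid.exponent P = p) := by
  classical
  have hp : p.Prime := Fact.out
  rcases key' hC P with hexp | huniq
  · by_cases hab : ∀ a b : ↥(P : Subgroup G), a * b = b * a
    · right; left
      exact ⟨⟨⟨hab⟩⟩, hexp⟩
    · right; right; right
      push_neg at hab
      have hexp' : ∀ x : ↥(P : Subgroup G), x ^ p = 1 := by
        intro x
        apply Subtype.ext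
        rw [Subgroup.coe_pow]
        exact hexp x x.2
      have hp2 : p ≠ 2 := by
        intro hp2
        obtain ⟨a, b, hab'⟩ := hab
        apply hab'
        have hpow : ∀ z : ↥(P : Subgroup G), z ^ 2 = 1 := fun z =>
          (congrArg (fun n => z ^ n) hp2).symm.trans (hexp' z)
        have h1 := hpow a
        have h2 := hpow b
        have h3 := hpow (a * b)
        have ha : a⁻¹ = a := by rw [inv_eq_iff_mul_eq_one, ← sq]; exact h1
        have hb : b⁻¹ = b := by rw [inv_eq_iff_mul_eq_one, ← sq]; exact h2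
        have hab2 : (a * b)⁻¹ = a * b := by rw [inv_eq_iff_mul_eq_one, ← sq]; exact h3
        calc a * b = (a * b)⁻¹ := hab2.symm
          _ = b⁻¹ * a⁻¹ := mul_inv_rev a b
          _ = b * a := by rw [ha, hb]
      obtain ⟨B, hBc, a, haB, b, hbB, habne⟩ := exists_nonab P.isPGroup' hexp' hab
      have hcardP : Nat.card ↥(P : Subgroup G) = p ^ 3 := by
        by_contra hne
        have hdvd : p ^ 3 ∣ Nat.card ↥(P : Subgroup G) := hBc ▸ Subgroup.card_subgroup_dvd_card B
        obtain ⟨k, hk⟩ := IsPGroup.iff_card.1 P.isPGroup'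
        have hk3 : 4 ≤ k := by
          rw [hk] at hdvd hne
          have h3 : 3 ≤ k := (Nat.pow_dvd_pow_iff_le_right hp.one_lt).1 hdvd
          by_contra hlt
          have : k = 3 := by omega
          exact hne (by rw [this])
        have h4 : p ^ 4 ≤ Nat.card ↥(P : Subgroup G) := by
          rw [hk]; exact Nat.pow_le_pow_right hp.pos hk3
        obtain ⟨E, hEc, hEcomm⟩ := exists_ab P.isPGroup' hexp' h4
        set E' : Subgroup G := E.map (P : Subgroup G).subtype with hE'
        set B' : Subgroup G := B.map (P : Subgroup G).subtype with hB'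
        have hE'c : Nat.card E' = p ^ 3 := by
          rw [hE', Subgroup.card_map_of_injective (Subgroup.subtype_injective _), hEc]
        have hB'c : Nat.card B' = p ^ 3 := by
          rw [hB', Subgroup.card_map_of_injective (Subgroup.subtype_injective _), hBc]
        obtain ⟨g, hg⟩ := hC E' B' (IsPGroup.of_card (n := 3) hE'c)
          (IsPGroup.of_card (n := 3) hB'c) (by rw [hE'c, hB'c])
        apply habne
        have haB' : (a : G) ∈ B' := Subgroup.mem_map_of_mem _ haB
        have hbB' : (b : G) ∈ B' := Subgroup.mem_map_of_mem _ hbB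
        rw [hg] at haB' hbB'
        obtain ⟨a0, ha0, ha0a⟩ := Subgroup.mem_map.1 haB'
        obtain ⟨b0, hb0, hb0b⟩ := Subgroup.mem_map.1 hbB'
        obtain ⟨a1, ha1, ha1a⟩ := Subgroup.mem_map.1 ha0
        obtain ⟨b1, hb1, hb1b⟩ := Subgroup.mem_map.1 hb0
        apply Subtype.ext
        rw [Subgroup.coe_mul, Subgroup.coe_mul, ← ha0a, ← hb0b, ← map_mul, ← map_mul,
          ← ha1a, ← hb1b, ← map_mul, ← map_mul, hEcomm a1 ha1 b1 hb1]
      refine ⟨hp2, ?_, hcardP, ?_⟩
      · intro hcomm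
        obtain ⟨a, b, hab'⟩ := hab
        exact hab' (hcomm.is_comm.comm a b)
      · have h1 : Monoid.exponent ↥(P : Subgroup G) ∣ p :=
          Monoid.exponent_dvd_of_forall_pow_eq_one hexp'
        rcases (Nat.dvd_prime hp).1 h1 with h | h
        · exfalso
          obtain ⟨a, b, hab'⟩ := hab
          have ha : a = 1 := by
            have := Monoid.pow_exponent_eq_one a
            rwa [h, pow_one] at this
          apply hab'; rw [ha, one_mul, mul_one]
        · exact h
  · rcases Cfsg.Agent.Lib.Helper1.UniqP.cyclic_or_quat P.isPGroup' huniq with hcyc | ⟨hp2, n, ⟨e⟩⟩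
    · left; exact hcyc
    · subst hp2
      have hn := quat_small hC P n e
      interval_cases n
      · left
        have e' : ↥(P : Subgroup G) ≃* QuaternionGroup 1 := e
        haveI := QuaternionGroup.quaternionGroup_one_isCyclic
        exact isCyclic_of_surjective e'.symm e'.symm.surjective
      · right; right; left
        have e' : ↥(P : Subgroup G) ≃* QuaternionGroup 2 := e
        exact ⟨rfl, ⟨e'⟩⟩

end Cfsg.Agent.Lib.Helper6.EqOrdConj
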