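import Mathlib
import Cfsg.Agent.Lib.Helper6.PPrime
import Cfsg.Agent.Lib.Helper6.SylowConj

set_option autoImplicit false

namespace Cfsg.Agent.Lib.Helper6.Invert

theorem dihedral {Q : Type*} [Group Q] [Finite Q] (s t : Q) (hs : s ^ 2 = 1) (ht : t ^ 2 = 1) :
    (Odd (orderOf (s * t)) ∧ s * (s * t) * s⁻¹ = (s * t)⁻¹) ∨
    ∃ z : Q, z ≠ 1 ∧ z ^ 2 = 1 ∧ s * z = z * s ∧ t * z = z * t := by
  have hsi : s⁻¹ = s := by
    rw [inv_eq_iff_mul_eq_one, ← sq]; exact hs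
  have hti : t⁻¹ = t := by
    rw [inv_eq_iff_mul_eq_one, ← sq]; exact ht
  have hc1 : s * (s * t) * s⁻¹ = (s * t)⁻¹ := by
    rw [mul_inv_rev, hsi, hti, ← mul_assoc, ← sq, hs, one_mul]
  have hc2 : t * (s * t) * t⁻¹ = (s * t)⁻¹ := by
    rw [mul_inv_rev, hsi, hti, mul_assoc, mul_assoc, ← sq, ht, mul_one]
  rcases Nat.even_or_odd (orderOf (s * t)) with he | ho
  · right
    obtain ⟨j, hj⟩ := he
    have hpos : 0 < orderOf (s * t) := orderOf_pos _
    have hj0 : 0 < j := by omega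
    refine ⟨(s * t) ^ j, ?_, ?_, ?_, ?_⟩
    · exact pow_ne_one_of_lt_orderOf hj0.ne' (by omega)
    · rw [← pow_mul, show j * 2 = orderOf (s * t) by omega, pow_orderOf_eq_one]
    · have hz2 : ((s * t) ^ j) ^ 2 = 1 := by
        rw [← pow_mul, show j * 2 = orderOf (s * t) by omega, pow_orderOf_eq_one]
      have hzi : ((s * t) ^ j)⁻¹ = (s * t) ^ j := by
        rw [inv_eq_iff_mul_eq_one, ← sq]; exact hz2
      have h1 : s * (s * t) ^ j * s⁻¹ = (s * t) ^ j := by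
        rw [← conj_pow, hc1, inv_pow, hzi]
      calc s * (s * t) ^ j = (s * (s * t) ^ j * s⁻¹) * s := by group
        _ = (s * t) ^ j * s := by rw [h1]
    · have hz2 : ((s * t) ^ j) ^ 2 = 1 := by
        rw [← pow_mul, show j * 2 = orderOf (s * t) by omega, pow_orderOf_eq_one]
      have hzi : ((s * t) ^ j)⁻¹ = (s * t) ^ j := by
        rw [inv_eq_iff_mul_eq_one, ← sq]; exact hz2
      have h1 : t * (s * t) ^ j * t⁻¹ = (s * t) ^ j := by
        rw [← conj_pow, hc2, inv_pow, hzi]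
      calc t * (s * t) ^ j = (t * (s * t) ^ j * t⁻¹) * t := by group
        _ = (s * t) ^ j * t := by rw [h1]
  · left
    exact ⟨ho, hc1⟩

theorem exists_step {G : Type*} [Group G] [Finite G] (D S : Subgroup G) (hS : IsPGroup 2 S)
    (hlt : D < S) :
    ∃ s ∈ S, s ∉ D ∧ s ∈ Subgroup.normalizer (D : Set G) ∧ s ^ 2 ∈ D := by
  haveI : Fact (Nat.Prime 2) := ⟨Nat.prime_two⟩
  have hnil : Group.IsNilpotent S := hS.isNilpotent
  have hnc := Group.normalizerCondition_of_isNilpotent (G := S)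
  have hlt' : D.subgroupOf S < ⊤ := by
    rw [lt_top_iff_ne_top]
    intro h
    rw [Subgroup.subgroupOf_eq_top] at h
    exact hlt.not_ge h
  have h1 := hnc (D.subgroupOf S) hlt'
  obtain ⟨x, hxN, hxD⟩ := SetLike.exists_of_lt h1
  have hxS : (x : G) ∈ S := x.2
  have hxD' : (x : G) ∉ D := fun h => hxD (Subgroup.mem_subgroupOf.2 h)
  have hxN' : (x : G) ∈ Subgroup.normalizer (D : Set G) := by
    rw [Subgroup.mem_normalizer_iff]
    intro h
    constructor
    · intro hh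
      have : x * ⟨h, hlt.le hh⟩ * x⁻¹ ∈ D.subgroupOf S :=
        ((Subgroup.mem_normalizer_iff.1 hxN) ⟨h, hlt.le hh⟩).1 (Subgroup.mem_subgroupOf.2 hh)
      exact Subgroup.mem_subgroupOf.1 this
    · intro hh
      have hhS : h ∈ S := by
        have h2 : (x : G) * h * (x : G)⁻¹ ∈ S := hlt.le hh
        have h3 := S.mul_mem (S.mul_mem (S.inv_mem hxS) h2) hxS
        have e : (x : G)⁻¹ * ((x : G) * h * (x : G)⁻¹) * (x : G) = h := by group
        rwa [e] at h3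
      have : (⟨h, hhS⟩ : S) ∈ D.subgroupOf S :=
        ((Subgroup.mem_normalizer_iff.1 hxN) ⟨h, hhS⟩).2 (Subgroup.mem_subgroupOf.2 hh)
      exact Subgroup.mem_subgroupOf.1 this
  obtain ⟨c, hc⟩ := hS ⟨x, hxS⟩
  have hc' : (x : G) ^ 2 ^ c = 1 := by
    have := congrArg Subtype.val hc
    simpa using this
  have hex : ∃ j : ℕ, (x : G) ^ 2 ^ j ∈ D := ⟨c, by rw [hc']; exact D.one_mem⟩
  classical
  have hj := Nat.find_spec hex
  have hj0 : Nat.find hex ≠ 0 := by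
    intro h0
    rw [h0] at hj
    simp at hj
    exact hxD' hj
  obtain ⟨i, hi⟩ := Nat.exists_eq_succ_of_ne_zero hj0
  refine ⟨(x : G) ^ 2 ^ i, S.pow_mem hxS _, ?_, Subgroup.pow_mem _ hxN' _, ?_⟩
  · exact Nat.find_min hex (by omega : i < Nat.find hex)
  · rw [← pow_mul, ← pow_succ, ← Nat.succ_eq_add_one, ← hi]
    exact hj

theorem sq_closure_pair {Q : Type*} [Group Q] (a b : Q) (ha : a ^ 2 = 1) (hb : b ^ 2 = 1)
    (hab : a * b = b * a) : ∀ g ∈ Subgroup.closure ({a, b} : Set Q), g ^ 2 = 1 := by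
  have hk : ∀ x ∈ ({a, b} : Set Q), ∀ y ∈ ({a, b} : Set Q), x * y = y * x := by
    intro x hx y hy
    rcases hx with rfl | rfl <;> rcases hy with rfl | rfl
    · rfl
    · exact hab
    · exact hab.symm
    · rfl
  have hc : ∀ x ∈ Subgroup.closure ({a, b} : Set Q), ∀ y ∈ Subgroup.closure ({a, b} : Set Q),
      x * y = y * x := by
    intro x hx y hy
    have := (Subgroup.isMulCommutative_closure hk).is_comm.comm ⟨x, hx⟩ ⟨y, hy⟩
    exact congrArg Subtype.val this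
  intro g hg
  induction hg using Subgroup.closure_induction with
  | mem x hx =>
    rcases hx with rfl | rfl
    · exact ha
    · exact hb
  | one => simp
  | mul x y hx hy ihx ihy =>
    have hcomm : Commute x y := hc x hx y hy
    rw [hcomm.mul_pow, ihx, ihy, one_mul]
  | inv x hx ihx => rw [inv_pow, ihx, inv_one]

theorem mem_of_comm {G : Type*} [Group G] [Finite G] (S : Sylow 2 G) (D N : Subgroup G)
    [(D.subgroupOf N).Normal] (hDN : D ≤ N)
    (hDS : D ≤ (S : Subgroup G))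
    (hmax : ∀ T : Sylow 2 G, T ≠ S → Nat.card ↥((T : Subgroup G) ⊓ S) ≤ Nat.card D)
    (s z : ↥N) (hs : (s : G) ∈ (S : Subgroup G))
    (hsD : (s : G) ∉ D)
    (hs2 : (QuotientGroup.mk' (D.subgroupOf N) s) ^ 2 = 1)
    (hz2 : (QuotientGroup.mk' (D.subgroupOf N) z) ^ 2 = 1)
    (hcomm : QuotientGroup.mk' (D.subgroupOf N) s * QuotientGroup.mk' (D.subgroupOf N) z =
      QuotientGroup.mk' (D.subgroupOf N) z * QuotientGroup.mk' (D.subgroupOf N) s) :
    (z : G) ∈ (S : Subgroup G) := by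
  haveI : Fact (Nat.Prime 2) := ⟨Nat.prime_two⟩
  generalize hπ : QuotientGroup.mk' (D.subgroupOf N) = π at hs2 hz2 hcomm
  set Eb := Subgroup.closure ({π s, π z} : Set (↥N ⧸ D.subgroupOf N)) with hEb
  have hEb2 : IsPGroup 2 Eb := by
    rintro ⟨g, hg⟩
    refine ⟨1, Subtype.ext ?_⟩
    simpa using sq_closure_pair (π s) (π z) hs2 hz2 hcomm g hg
  have hD2 : IsPGroup 2 D := S.isPGroup'.to_le hDS
  have hker : IsPGroup 2 π.ker := by
    rw [← hπ, QuotientGroup.ker_mk']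
    exact hD2.comap_subtype
  have hE : IsPGroup 2 ((Eb.comap π).map N.subtype) := (hEb2.comap_of_ker_isPGroup π hker).map _
  obtain ⟨T, hT⟩ := hE.exists_le_sylow
  have hsE : (s : G) ∈ (Eb.comap π).map N.subtype :=
    ⟨s, Subgroup.mem_comap.2 (Subgroup.subset_closure (Or.inl rfl)), rfl⟩
  have hzE : (z : G) ∈ (Eb.comap π).map N.subtype :=
    ⟨z, Subgroup.mem_comap.2 (Subgroup.subset_closure (Or.inr rfl)), rfl⟩
  have hDE : D ≤ (Eb.comap π).map N.subtype := by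
    intro d hd
    have hdN : d ∈ N := hDN hd
    refine ⟨⟨d, hdN⟩, Subgroup.mem_comap.2 ?_, rfl⟩
    have : π ⟨d, hdN⟩ = 1 := by
      rw [← hπ, QuotientGroup.mk'_apply, QuotientGroup.eq_one_iff]
      exact Subgroup.mem_subgroupOf.2 hd
    rw [this]
    exact Eb.one_mem
  have hTS : T = S := by
    by_contra hne
    have h1 := hmax T hne
    have h2 : D ≤ (T : Subgroup G) ⊓ S := le_inf (hDE.trans hT) hDS
    have h3 : D = (T : Subgroup G) ⊓ S := Subgroup.eq_of_le_of_card_ge h2 h1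
    apply hsD
    have h4 : (s : G) ∈ (T : Subgroup G) ⊓ S := ⟨hT hsE, hs⟩
    rw [← h3] at h4
    exact h4
  rw [← hTS]
  exact hT hzE

theorem exists_inverted {G : Type*} [Group G] [Finite G] (P : Sylow 2 G)
    (hP : ¬ (P : Subgroup G).Normal) :
    ∃ x g : G, x ≠ 1 ∧ Odd (orderOf x) ∧ g * x * g⁻¹ = x⁻¹ := by
  classical
  haveI : Fact (Nat.Prime 2) := ⟨Nat.prime_two⟩
  have hex : ∃ S₁ S₂ : Sylow 2 G, S₁ ≠ S₂ := by
    by_contra hcon
    push Not at hcon
    haveI : Subsingleton (Sylow 2 G) := ⟨hcon⟩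
    exact hP (Sylow.normal_of_subsingleton P)
  obtain ⟨A₁, A₂, hA⟩ := hex
  haveI : Nonempty {pr : Sylow 2 G × Sylow 2 G // pr.1 ≠ pr.2} := ⟨⟨(A₁, A₂), hA⟩⟩
  obtain ⟨⟨⟨S₁, S₂⟩, hne⟩, hmax⟩ := Finite.exists_max
    (fun pr : {pr : Sylow 2 G × Sylow 2 G // pr.1 ≠ pr.2} =>
      Nat.card ↥((pr.1.1 : Subgroup G) ⊓ (pr.1.2 : Subgroup G)))
  simp only at hne
  have hmax' : ∀ T₁ T₂ : Sylow 2 G, T₁ ≠ T₂ →
      Nat.card ↥((T₁ : Subgroup G) ⊓ T₂) ≤ Nat.card ↥((S₁ : Subgroup G) ⊓ S₂) :=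
    fun T₁ T₂ h => hmax ⟨(T₁, T₂), h⟩
  set D : Subgroup G := (S₁ : Subgroup G) ⊓ S₂ with hD
  have hD1 : D < (S₁ : Subgroup G) := by
    refine lt_of_le_of_ne inf_le_left ?_
    intro h
    have h1 : (S₁ : Subgroup G) ≤ S₂ := by rw [← h]; exact inf_le_right
    exact hne (Sylow.ext (S₁.is_maximal' S₂.isPGroup' h1).symm)
  have hD2 : D < (S₂ : Subgroup G) := by
    refine lt_of_le_of_ne inf_le_right ?_
    intro h
    have h1 : (S₂ : Subgroup G) ≤ S₁ := by rw [← h]; exact inf_le_left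
    exact hne (Sylow.ext (S₂.is_maximal' S₁.isPGroup' h1))
  obtain ⟨s, hsS, hsD, hsN, hs2⟩ := exists_step D S₁ S₁.isPGroup' hD1
  obtain ⟨t, htS, htD, htN, ht2⟩ := exists_step D S₂ S₂.isPGroup' hD2
  set N := Subgroup.normalizer (D : Set G) with hN
  set π := QuotientGroup.mk' (D.subgroupOf N) with hπ
  have hπ1 : ∀ u : ↥N, π u = 1 ↔ (u : G) ∈ D := by
    intro u
    rw [hπ, QuotientGroup.mk'_apply, QuotientGroup.eq_one_iff, Subgroup.mem_subgroupOf]
  have hsb2 : π ⟨s, hsN⟩ ^ 2 = 1 := by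
    rw [← map_pow, hπ1]; exact hs2
  have htb2 : π ⟨t, htN⟩ ^ 2 = 1 := by
    rw [← map_pow, hπ1]; exact ht2
  have hmaxS₁ : ∀ T : Sylow 2 G, T ≠ S₁ → Nat.card ↥((T : Subgroup G) ⊓ S₁) ≤ Nat.card D :=
    fun T h => hmax' T S₁ h
  have hmaxS₂ : ∀ T : Sylow 2 G, T ≠ S₂ → Nat.card ↥((T : Subgroup G) ⊓ S₂) ≤ Nat.card D :=
    fun T h => by
      have := hmax' S₂ T (Ne.symm h)
      rwa [inf_comm] at this
  rcases dihedral (π ⟨s, hsN⟩) (π ⟨t, htN⟩) hsb2 htb2 with ⟨hodd, hinv⟩ | ⟨zb, hz1, hz2, hzs, hzt⟩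
  · set sb := π ⟨s, hsN⟩ with hsb
    set tb := π ⟨t, htN⟩ with htb
    have hx1 : sb * tb ≠ 1 := by
      intro h
      have h1 : π (⟨s, hsN⟩ * ⟨t, htN⟩) = 1 := by rw [map_mul]; exact h
      rw [hπ1] at h1
      have h2 : s * t ∈ D := h1
      have h3 : t ∈ (S₁ : Subgroup G) := by
        have := (S₁ : Subgroup G).mul_mem ((S₁ : Subgroup G).inv_mem hsS) (hD1.le h2)
        simpa using this
      exact htD ⟨h3, htS⟩
    set k := orderOf (sb * tb) with hk
    have hk1 : k ≠ 1 := by rw [hk, Ne, orderOf_eq_one_iff]; exact hx1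
    have hkpos : 0 < k := orderOf_pos _
    set q := k.minFac with hq
    have hqp : q.Prime := Nat.minFac_prime hk1
    have hqk : q ∣ k := Nat.minFac_dvd k
    have hqodd : Odd q := Odd.of_dvd_nat hodd hqk
    haveI : Fact q.Prime := ⟨hqp⟩
    set c := Nat.card (D.subgroupOf N) with hc
    have hcq : c.Coprime q := by
      have hD2 : IsPGroup 2 (D.subgroupOf N) := (S₁.isPGroup'.to_le hD1.le).comap_subtype
      obtain ⟨b, hb⟩ := IsPGroup.iff_card.1 hD2
      rw [hc, hb]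
      apply Nat.Coprime.pow_left
      rw [Nat.coprime_primes Nat.prime_two hqp]
      rintro h2
      rw [← h2] at hqodd
      exact (Nat.not_even_iff_odd.2 hqodd) even_two
    set x1 := (sb * tb) ^ (k / q) with hx1def
    have ho1 : orderOf x1 = q := orderOf_pow_orderOf_div hkpos.ne' hqk
    have hinv1 : sb * x1 * sb⁻¹ = x1⁻¹ := by
      rw [hx1def, ← conj_pow, hinv, inv_pow]
    set x2 := x1 ^ c with hx2def
    have ho2 : orderOf x2 = q := by
      rw [hx2def, Nat.Coprime.orderOf_pow (by rw [ho1]; exact hcq.symm), ho1]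
    have hinv2 : sb * x2 * sb⁻¹ = x2⁻¹ := by
      rw [hx2def, ← conj_pow, hinv1, inv_pow]
    obtain ⟨u, hu⟩ := QuotientGroup.mk'_surjective (D.subgroupOf N) x1
    have hu' : π u = x1 := hu
    set x' := u ^ c with hx'
    have hπx' : π x' = x2 := by rw [hx', map_pow, hu']
    have hx'q : x' ^ q = 1 := by
      have h1 : (u ^ q : ↥N) ∈ D.subgroupOf N := by
        have h0 : π (u ^ q) = 1 := by rw [map_pow, hu', ← ho1, pow_orderOf_eq_one]
        exact Subgroup.mem_subgroupOf.2 ((hπ1 _).1 h0)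
      have h2 : (⟨u ^ q, h1⟩ : D.subgroupOf N) ^ c = 1 := pow_card_eq_one'
      have h3 := congrArg Subtype.val h2
      rw [hx', ← pow_mul, mul_comm, pow_mul]
      simpa using h3
    have hx'1 : x' ≠ 1 := by
      intro h
      have h1 : x2 = 1 := by rw [← hπx', h, map_one]
      rw [← orderOf_eq_one_iff, ho2] at h1
      exact hqp.one_lt.ne' h1
    have hox' : orderOf x' = q := by
      have h1 : orderOf x' ∣ q := orderOf_dvd_of_pow_eq_one hx'q
      rcases (Nat.dvd_prime hqp).1 h1 with h | h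
      · exact absurd (orderOf_eq_one_iff.1 h) hx'1
      · exact h
    have hPq : IsPGroup q (Subgroup.zpowers x') :=
      Cfsg.Agent.Lib.Helper6.SylowConj.isPGroup_zpowers x' 1 (by rw [hox', pow_one])
    have hconj : (⟨s, hsN⟩ : ↥N) * x' * (⟨s, hsN⟩ : ↥N)⁻¹ * x' ∈ D.subgroupOf N := by
      apply Subgroup.mem_subgroupOf.2
      apply (hπ1 _).1
      rw [map_mul, map_mul, map_mul, map_inv, hπx', hinv2, inv_mul_cancel]
    obtain ⟨n, hn, hg⟩ := Cfsg.Agent.Lib.Helper6.PPrime.exists_mul_mem_normalizer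
      (D.subgroupOf N) hcq (Subgroup.zpowers x') hPq ⟨s, hsN⟩ (by
        intro w hw
        obtain ⟨i, rfl⟩ := Subgroup.mem_zpowers_iff.1 hw
        have e : (⟨s, hsN⟩ : ↥N) * x' ^ i * (⟨s, hsN⟩ : ↥N)⁻¹ =
            ((⟨s, hsN⟩ : ↥N) * x' * (⟨s, hsN⟩ : ↥N)⁻¹) ^ i := by
          rw [conj_zpow]
        rw [e]
        apply Subgroup.zpow_mem
        have e2 : (⟨s, hsN⟩ : ↥N) * x' * (⟨s, hsN⟩ : ↥N)⁻¹ =
            ((⟨s, hsN⟩ : ↥N) * x' * (⟨s, hsN⟩ : ↥N)⁻¹ * x') * x'⁻¹ := by group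
        rw [e2]
        exact Subgroup.mul_mem _ (Subgroup.mem_sup_right hconj)
          (Subgroup.mem_sup_left (Subgroup.inv_mem _ (Subgroup.mem_zpowers x'))))
    set g := n * ⟨s, hsN⟩ with hgdef
    have hgx : g * x' * g⁻¹ ∈ Subgroup.zpowers x' :=
      (Subgroup.mem_normalizer_iff.1 hg x').1 (Subgroup.mem_zpowers x')
    obtain ⟨j, hj⟩ := Subgroup.mem_zpowers_iff.1 hgx
    have hπg : π g = sb := by
      rw [hgdef, map_mul, (hπ1 n).2 (Subgroup.mem_subgroupOf.1 hn), one_mul]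
    have hw : x' ^ j * x' ∈ D.subgroupOf N := by
      apply Subgroup.mem_subgroupOf.2
      apply (hπ1 _).1
      rw [hj, map_mul, map_mul, map_mul, map_inv, hπg, hπx', hinv2, inv_mul_cancel]
    have hw1 : x' ^ j * x' = 1 := by
      have h1 : (x' ^ j * x') ^ q = 1 := by
        have e : x' ^ j * x' = x' ^ (j + 1) := by rw [zpow_add, zpow_one]
        rw [e, ← zpow_natCast, ← zpow_mul, mul_comm, zpow_mul, zpow_natCast, hx'q, one_zpow]
      have h2 : (x' ^ j * x') ^ c = 1 := by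
        have h2' : (⟨x' ^ j * x', hw⟩ : D.subgroupOf N) ^ c = 1 := pow_card_eq_one'
        have h3 := congrArg Subtype.val h2'
        simpa using h3
      have h3 : orderOf (x' ^ j * x') ∣ Nat.gcd q c :=
        Nat.dvd_gcd (orderOf_dvd_of_pow_eq_one h1) (orderOf_dvd_of_pow_eq_one h2)
      rw [Nat.Coprime.gcd_eq_one hcq.symm, Nat.dvd_one, orderOf_eq_one_iff] at h3
      exact h3
    have hfinal : g * x' * g⁻¹ = x'⁻¹ := by
      rw [← hj]; exact eq_inv_of_mul_eq_one_left hw1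
    refine ⟨(x' : G), (g : G), ?_, ?_, ?_⟩
    · intro h; exact hx'1 (Subtype.ext h)
    · rw [Subgroup.orderOf_coe, hox']; exact hqodd
    · have := congrArg Subtype.val hfinal
      simpa using this
  · exfalso
    obtain ⟨z, rfl⟩ := QuotientGroup.mk'_surjective (D.subgroupOf N) zb
    have h1 : (z : G) ∈ (S₁ : Subgroup G) :=
      mem_of_comm S₁ D N Subgroup.le_normalizer inf_le_left hmaxS₁ ⟨s, hsN⟩ z hsS hsD hsb2 hz2 hzs
    have h2 : (z : G) ∈ (S₂ : Subgroup G) :=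
      mem_of_comm S₂ D N Subgroup.le_normalizer inf_le_right hmaxS₂ ⟨t, htN⟩ z htS htD htb2 hz2 hzt
    exact hz1 ((hπ1 z).2 ⟨h1, h2⟩)

end Cfsg.Agent.Lib.Helper6.Invert
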