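import Mathlib
import Cfsg.Agent.Lib.Helper6.CycMod

set_option autoImplicit false

namespace Cfsg.Agent.Lib.Helper6.IrrCyc

open Polynomial

theorem card_le_of_irred {r s : ℕ} [Fact r.Prime] [Fact s.Prime] (hrs : r ≠ s)
    {V : Type*} [AddCommGroup V] [Module (ZMod r) V] [Finite V] [Nontrivial V]
    (T : V →ₗ[ZMod r] V) (hΦ : aeval T (cyclotomic s (ZMod r)) = 0)
    (hirr : ∀ W : Submodule (ZMod r) V, (∀ v ∈ W, T v ∈ W) → W = ⊥ ∨ W = ⊤) :
    Nat.card V ≤ r ^ orderOf (r : ZMod s) := by
  classical
  have hr : r.Prime := Fact.out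
  have hs : s.Prime := Fact.out
  have key : ∀ f : (ZMod r)[X], f ∣ cyclotomic s (ZMod r) → ¬ Function.Injective (aeval T f) →
      ∃ P : (ZMod r)[X], Irreducible P ∧ P ∣ cyclotomic s (ZMod r) ∧
        ¬ Function.Injective (aeval T P) := by
    intro f
    induction f using UniqueFactorizationMonoid.induction_on_prime with
    | h₁ =>
      intro h0 _
      exact absurd (zero_dvd_iff.1 h0) (cyclotomic_ne_zero s _)
    | h₂ x hx =>
      intro _ hinj
      exfalso
      apply hinj
      have hu : IsUnit (aeval T x) := hx.map (aeval T)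
      exact ((Module.End.isUnit_iff _).1 hu).injective
    | h₃ a p ha hp ih =>
      intro hdvd hinj
      by_cases hpi : Function.Injective (aeval T p)
      · apply ih ((dvd_mul_left a p).trans hdvd)
        intro hai
        apply hinj
        rw [map_mul]
        exact hpi.comp hai
      · exact ⟨p, hp.irreducible, (dvd_mul_right p a).trans hdvd, hpi⟩
  obtain ⟨P, hPirr, hPdvd, hPinj⟩ := key _ dvd_rfl (by
    rw [hΦ]
    intro h
    obtain ⟨v, hv⟩ := exists_ne (0 : V)
    exact hv (h (by simp)))
  have hcommT : ∀ v : V, aeval T P (T v) = T (aeval T P v) := by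
    intro v
    have h1 : aeval T P * T = T * aeval T P := by
      have e1 : aeval T (P * X) = aeval T P * T := by rw [map_mul, aeval_X]
      have e2 : aeval T (X * P) = T * aeval T P := by rw [map_mul, aeval_X]
      rw [← e1, ← e2, mul_comm]
    exact congrArg (fun f : V →ₗ[ZMod r] V => f v) h1
  have hP0 : aeval T P = 0 := by
    rcases hirr (LinearMap.ker (aeval T P)) (by
      intro v hv
      rw [LinearMap.mem_ker] at hv ⊢
      rw [hcommT, hv, map_zero]) with h | h
    · exact absurd (LinearMap.ker_eq_bot.1 h) hPinj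
    · exact LinearMap.ker_eq_top.1 h
  obtain ⟨v, hv⟩ := exists_ne (0 : V)
  let Ev : (ZMod r)[X] →ₗ[ZMod r] V :=
    { toFun := fun f => aeval T f v
      map_add' := by intro f g; rw [map_add]; rfl
      map_smul' := by intro c f; rw [map_smul]; rfl }
  have hEv : ∀ f, Ev f = aeval T f v := fun f => rfl
  have hrange : LinearMap.range Ev = ⊤ := by
    rcases hirr (LinearMap.range Ev) (by
      rintro _ ⟨f, rfl⟩
      refine ⟨X * f, ?_⟩
      rw [hEv, hEv, map_mul, aeval_X]; rfl) with h | h
    · exfalso
      apply hv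
      have hmem : v ∈ LinearMap.range Ev := ⟨1, by rw [hEv, map_one]; rfl⟩
      rw [h] at hmem
      exact (Submodule.mem_bot _).1 hmem
    · exact h
  set d := P.natDegree with hd
  have hsurj : Function.Surjective
      (fun g : degreeLT (ZMod r) d => aeval T (g : (ZMod r)[X]) v) := by
    intro u
    obtain ⟨f, hf⟩ : u ∈ LinearMap.range Ev := by rw [hrange]; trivial
    refine ⟨⟨f % P, ?_⟩, ?_⟩
    · rw [mem_degreeLT]
      calc (f % P).degree < P.degree := degree_mod_lt f hPirr.ne_zero
        _ = d := degree_eq_natDegree hPirr.ne_zero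
    · show aeval T (f % P) v = u
      have hdm : f = P * (f / P) + f % P := (EuclideanDomain.div_add_mod f P).symm
      rw [← hf, hEv]
      conv_rhs => rw [hdm]
      rw [map_add, map_mul, hP0, zero_mul, zero_add]
  haveI : Finite (degreeLT (ZMod r) d) :=
    Finite.of_equiv _ (degreeLTEquiv (ZMod r) d).symm.toEquiv
  have hcard : Nat.card V ≤ Nat.card (degreeLT (ZMod r) d) :=
    Nat.card_le_card_of_surjective _ hsurj
  have hcard2 : Nat.card (degreeLT (ZMod r) d) = r ^ d := by
    rw [Nat.card_congr (degreeLTEquiv (ZMod r) d).toEquiv, Nat.card_fun, Nat.card_fin,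
      Nat.card_zmod]
  have hdeq : d = orderOf (r : ZMod s) := by
    have hK : Fintype.card (ZMod r) = r ^ 1 := by rw [ZMod.card, pow_one]
    have hn : r.Coprime s := (Nat.coprime_primes hr hs).2 hrs
    have h1 := natDegree_of_dvd_cyclotomic_of_irreducible hK hn hPdvd hPirr
    rw [hd, h1, ← orderOf_units, ZMod.coe_unitOfCoprime]
    simp
  rw [← hdeq, ← hcard2]
  exact hcard

theorem card_le_grp {A : Type*} [Group A] [Finite A] [Nontrivial A] {q p : ℕ} [Fact q.Prime]
    [Fact p.Prime] (hqp : q ≠ p) (hcomm : ∀ a b : A, a * b = b * a) (hexp : ∀ a : A, a ^ q = 1)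
    (c : A ≃* A) (hcp : c ^ p = 1) (hfix : ∀ a, c a = a → a = 1)
    (hirr : ∀ B : Subgroup A, (∀ b ∈ B, c b ∈ B) → B = ⊥ ∨ B = ⊤) :
    Nat.card A ≤ q ^ orderOf (q : ZMod p) := by
  classical
  letI : CommGroup A := { (inferInstance : Group A) with mul_comm := hcomm }
  letI : Module (ZMod q) (Additive A) := AddCommGroup.zmodModule (n := q) (G := Additive A)
    (fun x => congrArg Additive.ofMul (hexp x.toMul))
  let T : Additive A →ₗ[ZMod q] Additive A :=
    (MulEquiv.toAdditive c : Additive A ≃+ Additive A).toAddMonoidHom.toZModLinearMap q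
  have T_apply : ∀ v : Additive A, T v = Additive.ofMul (c v.toMul) := fun v => rfl
  have T_pow : ∀ (n : ℕ) (v : Additive A), (T ^ n) v = Additive.ofMul ((c ^ n) v.toMul) := by
    intro n
    induction n with
    | zero => intro v; simp
    | succ n ih =>
      intro v
      rw [pow_succ, Module.End.mul_apply, ih, T_apply, pow_succ, MulAut.mul_apply]
      simp
  have hΦ : aeval T (cyclotomic p (ZMod q)) = 0 := by
    apply CycMod.aeval_cyclotomic_eq_zero p T
    · ext v
      rw [T_pow, hcp]
      simp
    · intro v hv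
      have h1 : c v.toMul = v.toMul := congrArg Additive.toMul hv
      have h2 := hfix _ h1
      exact congrArg Additive.ofMul h2
  haveI : Nontrivial (Additive A) := inferInstanceAs (Nontrivial A)
  haveI : Finite (Additive A) := inferInstanceAs (Finite A)
  have hirr' : ∀ W : Submodule (ZMod q) (Additive A), (∀ v ∈ W, T v ∈ W) → W = ⊥ ∨ W = ⊤ := by
    intro W hW
    let B : Subgroup A :=
      { carrier := {a | Additive.ofMul a ∈ W}
        mul_mem' := fun {a b} ha hb => W.add_mem ha hb
        one_mem' := W.zero_mem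
        inv_mem' := fun {a} ha => W.neg_mem ha }
    have hBmem : ∀ a : A, a ∈ B ↔ Additive.ofMul a ∈ W := fun a => Iff.rfl
    rcases hirr B (fun b hb => hW _ hb) with h | h
    · left
      rw [Submodule.eq_bot_iff]
      intro v hv
      have : v.toMul ∈ B := hv
      rw [h, Subgroup.mem_bot] at this
      exact congrArg Additive.ofMul this
    · right
      rw [eq_top_iff]
      intro v _
      have : v.toMul ∈ B := by rw [h]; trivial
      exact this
  have hfin := card_le_of_irred (V := Additive A) hqp T hΦ hirr'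
  exact hfin

end Cfsg.Agent.Lib.Helper6.IrrCyc
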