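import Mathlib
import Cfsg.Agent.Lib.Helper6.IrrCyc
import Cfsg.Prelude.Def_LocalStructure
import Cfsg.Prelude.Def_Transfer

set_option autoImplicit false

namespace Cfsg.Agent.Lib.Helper6.MinNPC

open Subgroup

variable {G : Type*} [Group G] [Finite G] {p : ℕ} [Fact p.Prime]

theorem decomp (A : Subgroup G) [A.Normal] (hidx : A.index = p) (x : G) (hx : x ∉ A) (g : G) :
    ∃ i : ℕ, ∃ a ∈ A, g = x ^ i * a := by
  have hcard : Nat.card (G ⧸ A) = p := hidx
  have hx1 : (QuotientGroup.mk x : G ⧸ A) ≠ 1 := fun h => hx ((QuotientGroup.eq_one_iff x).1 h)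
  have htop := zpowers_eq_top_of_prime_card hcard hx1
  have hmem : (QuotientGroup.mk g : G ⧸ A) ∈ zpowers (QuotientGroup.mk x : G ⧸ A) := by
    rw [htop]; trivial
  rw [← mem_powers_iff_mem_zpowers] at hmem
  obtain ⟨i, hi⟩ := hmem
  refine ⟨i, (x ^ i)⁻¹ * g, ?_, by group⟩
  have : (QuotientGroup.mk (x ^ i) : G ⧸ A) = QuotientGroup.mk g := by
    rw [QuotientGroup.mk_pow]; exact hi
  exact QuotientGroup.eq.1 this

theorem main {q : ℕ} (hq : q.Prime) (hpq : q ≠ p)
    (hna : ¬ IsMulCommutative G) (A : Subgroup G) [hAn : A.Normal]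
    (hA : Cfsg.IsElementaryAbelian q A) (hidx : A.index = p)
    (hmin : ∀ B : Subgroup G, B.Normal → B ≤ A → B = ⊥ ∨ B = A) :
    Nat.card ↥A = q ^ orderOf (q : ZMod p) ∧ ¬ Cfsg.IsPClosed p G ∧
      (∀ H : Subgroup G, H ≠ ⊤ → Cfsg.IsPClosed p ↥H) ∧
      ∀ (N : Subgroup G) [N.Normal], N ≠ ⊥ → Cfsg.IsPClosed p (G ⧸ N) := by
  classical
  have hp : p.Prime := Fact.out
  haveI : Fact q.Prime := ⟨hq⟩
  have hAcomm : ∀ a ∈ A, ∀ b ∈ A, a * b = b * a := by
    intro a ha b hb
    exact congrArg Subtype.val (hA.1.is_comm.comm (⟨a, ha⟩ : A) ⟨b, hb⟩)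
  have hAexp : ∀ a ∈ A, a ^ q = 1 := hA.2
  have hAne : A ≠ ⊥ := by
    intro h0
    apply hna
    have hc : Nat.card G = p := by rw [← hidx, h0, Subgroup.index_bot]
    haveI : IsCyclic G := isCyclic_of_prime_card hc
    exact IsCyclic.commutative
  have hAtop : A ≠ ⊤ := by
    intro h1
    rw [h1, Subgroup.index_top] at hidx
    exact hp.one_lt.ne' hidx.symm
  obtain ⟨x, hx⟩ : ∃ x : G, x ∉ A := by
    by_contra hcon
    push_neg at hcon
    exact hAtop (eq_top_iff.2 fun g _ => hcon g)
  -- A ∩ Z(G) = 1
  have hAZ : ∀ a ∈ A, a ∈ center G → a = 1 := by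
    intro a ha haz
    have hBn : (A ⊓ center G).Normal := inferInstance
    rcases hmin (A ⊓ center G) hBn inf_le_left with h | h
    · have : a ∈ A ⊓ center G := ⟨ha, haz⟩
      rw [h] at this
      exact (Subgroup.mem_bot).1 this
    · exfalso
      apply hna
      have hAc : A ≤ center G := by rw [← h]; exact inf_le_right
      refine ⟨⟨fun g g' => ?_⟩⟩
      obtain ⟨i, a1, ha1, rfl⟩ := decomp A hidx x hx g
      obtain ⟨j, a2, ha2, rfl⟩ := decomp A hidx x hx g'
      have c1 : ∀ y : G, y * a1 = a1 * y := fun y => Subgroup.mem_center_iff.1 (hAc ha1) y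
      have c2 : ∀ y : G, y * a2 = a2 * y := fun y => Subgroup.mem_center_iff.1 (hAc ha2) y
      have hxx : x ^ i * x ^ j = x ^ j * x ^ i := by rw [← pow_add, ← pow_add, add_comm]
      calc x ^ i * a1 * (x ^ j * a2) = x ^ i * (a1 * x ^ j) * a2 := by group
        _ = x ^ i * (x ^ j * a1) * a2 := by rw [c1]
        _ = (x ^ i * x ^ j) * (a1 * a2) := by group
        _ = (x ^ j * x ^ i) * (a2 * a1) := by rw [hxx, c2 a1]
        _ = x ^ j * (x ^ i * a2) * a1 := by group
        _ = x ^ j * (a2 * x ^ i) * a1 := by rw [c2]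
        _ = x ^ j * a2 * (x ^ i * a1) := by group
  -- fixed-point-freeness
  have hfpf : ∀ y : G, y ∉ A → ∀ a ∈ A, y * a * y⁻¹ = a → a = 1 := by
    intro y hy a ha hya
    apply hAZ a ha
    rw [Subgroup.mem_center_iff]
    intro g
    obtain ⟨i, a1, ha1, rfl⟩ := decomp A hidx y hy g
    have hc : y * a = a * y := by
      calc y * a = (y * a * y⁻¹) * y := by group
        _ = a * y := by rw [hya]
    have hci : y ^ i * a = a * y ^ i := by
      have : Commute y a := hc
      exact (this.pow_left i).eq
    calc y ^ i * a1 * a = y ^ i * (a1 * a) := by group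
      _ = y ^ i * (a * a1) := by rw [hAcomm a1 ha1 a ha]
      _ = (y ^ i * a) * a1 := by group
      _ = (a * y ^ i) * a1 := by rw [hci]
      _ = a * (y ^ i * a1) := by group
  -- normal subgroups meeting A trivially are trivial
  have hL6 : ∀ N : Subgroup G, N.Normal → N ⊓ A = ⊥ → N = ⊥ := by
    intro N hNn hNA
    by_contra hN
    obtain ⟨n, hn1⟩ := (Subgroup.ne_bot_iff_exists_ne_one).1 hN
    have hnA : n.1 ∉ A := by
      intro h'
      have : n.1 ∈ N ⊓ A := ⟨n.2, h'⟩
      rw [hNA] at this
      exact hn1 (Subtype.ext ((Subgroup.mem_bot).1 this))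
    apply hAne
    rw [Subgroup.eq_bot_iff_forall]
    intro a ha
    have hc : Commute n.1 a :=
      Subgroup.commute_of_normal_of_disjoint N A hNn hAn (disjoint_iff.2 hNA) _ _ n.2 ha
    apply hfpf n.1 hnA a ha
    rw [hc.eq]; group
  have hxp : x ^ p ∈ A := by
    have hcard : Nat.card (G ⧸ A) = p := hidx
    have h1 : (QuotientGroup.mk x : G ⧸ A) ^ p = 1 := by
      rw [← hcard]; exact pow_card_eq_one'
    rw [← QuotientGroup.mk_pow] at h1
    exact (QuotientGroup.eq_one_iff _).1 h1
  refine ⟨?_, ?_, ?_, ?_⟩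
  · -- order of A
    set c : MulAut A := MulAut.conjNormal x with hc
    have hcapp : ∀ (i : ℕ) (a : A), (((c ^ i) a : A) : G) = x ^ i * (a : G) * (x ^ i)⁻¹ := by
      intro i a
      rw [hc, ← map_pow]
      rfl
    have hcp : c ^ p = 1 := by
      ext a
      rw [hcapp]
      have h1 := hAcomm _ hxp a a.2
      rw [h1]; simp
    have hfix : ∀ a : A, c a = a → a = 1 := by
      intro a ha
      apply Subtype.ext
      apply hfpf x hx a a.2
      have := hcapp 1 a
      rw [pow_one, pow_one] at this
      rw [← this, ha]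
    have hirr : ∀ B : Subgroup A, (∀ b ∈ B, c b ∈ B) → B = ⊥ ∨ B = ⊤ := by
      intro B hB
      have hBi : ∀ i : ℕ, ∀ b ∈ B, (c ^ i) b ∈ B := by
        intro i
        induction i with
        | zero => intro b hb; simpa using hb
        | succ i ih =>
          intro b hb
          rw [pow_succ, MulAut.mul_apply]
          exact ih _ (hB b hb)
      have hBn : (B.map A.subtype).Normal := by
        refine ⟨fun n hn g => ?_⟩
        obtain ⟨b, hb, rfl⟩ := Subgroup.mem_map.1 hn
        obtain ⟨i, a1, ha1, rfl⟩ := decomp A hidx x hx g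
        have h1 : x ^ i * a1 * A.subtype b * (x ^ i * a1)⁻¹ = (((c ^ i) b : A) : G) := by
          rw [hcapp]
          have h2 : a1 * (b : G) * a1⁻¹ = (b : G) := by
            rw [hAcomm a1 ha1 b b.2]; group
          calc x ^ i * a1 * A.subtype b * (x ^ i * a1)⁻¹
              = x ^ i * (a1 * (b : G) * a1⁻¹) * (x ^ i)⁻¹ := by
                simp only [Subgroup.coe_subtype]; group
            _ = x ^ i * (b : G) * (x ^ i)⁻¹ := by rw [h2]
        rw [h1]
        exact Subgroup.mem_map.2 ⟨_, hBi i b hb, rfl⟩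
      rcases hmin _ hBn (Subgroup.map_subtype_le B) with h | h
      · left
        exact (Subgroup.map_eq_bot_iff_of_injective B A.subtype_injective).1 h
      · right
        rw [eq_top_iff]
        intro a _
        have : (a : G) ∈ B.map A.subtype := by rw [h]; exact a.2
        obtain ⟨b, hb, hba⟩ := Subgroup.mem_map.1 this
        have : b = a := Subtype.ext hba
        rw [← this]; exact hb
    haveI : Nontrivial A := (Subgroup.nontrivial_iff_ne_bot A).2 hAne
    have hle := IrrCyc.card_le_grp (A := A) hpq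
      (fun a b => Subtype.ext (hAcomm a a.2 b b.2))
      (fun a => Subtype.ext (hAexp a a.2)) c hcp hfix hirr
    have hAq : IsPGroup q A := by
      intro a
      exact ⟨1, by rw [pow_one]; exact Subtype.ext (hAexp a a.2)⟩
    obtain ⟨k, hk⟩ := (IsPGroup.iff_card).1 hAq
    -- |A| ≡ 1 mod p
    have hZ : IsPGroup p (zpowers c) := by
      have h1 : orderOf c ∣ p := orderOf_dvd_of_pow_eq_one hcp
      rcases (Nat.dvd_prime hp).1 h1 with h2 | h2
      · exact IsPGroup.of_card (n := 0) (by rw [Nat.card_zpowers, h2, pow_zero])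
      · exact IsPGroup.of_card (n := 1) (by rw [Nat.card_zpowers, h2, pow_one])
    have hfixed : MulAction.fixedPoints (zpowers c) A = {1} := by
      ext a
      simp only [MulAction.mem_fixedPoints, Set.mem_singleton_iff]
      constructor
      · intro h
        exact hfix a (h ⟨c, mem_zpowers c⟩)
      · rintro rfl ⟨σ, hσ⟩
        exact map_one σ
    have hmod := hZ.card_modEq_card_fixedPoints A
    have hone : Nat.card (({1} : Set A)) = 1 := by
      rw [Nat.card_coe_set_eq, Set.ncard_singleton]
    rw [hfixed, hone, hk] at hmod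
    have hpow : (q : ZMod p) ^ k = 1 := by
      have := (ZMod.natCast_eq_natCast_iff _ _ _).2 hmod
      simpa using this
    have hdvd : orderOf (q : ZMod p) ∣ k := orderOf_dvd_of_pow_eq_one hpow
    have hk1 : 1 ≤ k := by
      by_contra hk0
      have : k = 0 := by omega
      rw [this, pow_zero] at hk
      have := (Nat.card_eq_one_iff_unique.1 hk).1
      exact not_subsingleton A this
    have hke : k ≤ orderOf (q : ZMod p) := by
      rw [hk] at hle
      exact (Nat.pow_le_pow_iff_right hq.one_lt).1 hle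
    have := Nat.le_of_dvd (by omega) hdvd
    rw [hk]
    congr 1
    omega
  · -- not p-closed
    intro hcl
    let P : Sylow p G := default
    have hPn : (P : Subgroup G).Normal := hcl P
    have hpG : p ∣ Nat.card G := by
      rw [← A.card_mul_index, hidx]; exact dvd_mul_left p _
    have hPne : (P : Subgroup G) ≠ ⊥ := P.ne_bot_of_dvd_card hpG
    apply hPne
    apply hL6 _ hPn
    have hAq : IsPGroup q A := by
      intro a
      exact ⟨1, by rw [pow_one]; exact Subtype.ext (hAexp a a.2)⟩
    exact disjoint_iff.1 (IsPGroup.disjoint_of_ne p q (Ne.symm hpq) _ _ P.isPGroup' hAq)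
  · -- proper subgroups
    intro H hH
    by_cases hHA : H ≤ A
    · intro P
      have hbot : (P : Subgroup H) = ⊥ := by
        rw [Subgroup.eq_bot_iff_forall]
        intro z hz
        obtain ⟨j, hj⟩ := P.isPGroup' ⟨z, hz⟩
        have hj' : z ^ (p ^ j) = 1 := by
          have := congrArg Subtype.val hj
          simpa using this
        have hzq : z ^ q = 1 := Subtype.ext (hAexp z (hHA z.2))
        have h1 : orderOf z ∣ Nat.gcd (p ^ j) q :=
          Nat.dvd_gcd (orderOf_dvd_of_pow_eq_one hj') (orderOf_dvd_of_pow_eq_one hzq)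
        have h2 : Nat.gcd (p ^ j) q = 1 :=
          Nat.Coprime.pow_left j ((Nat.coprime_primes hp hq).2 (Ne.symm hpq))
        rw [h2, Nat.dvd_one, orderOf_eq_one_iff] at h1
        exact h1
      rw [hbot]; infer_instance
    · obtain ⟨h0, hh0H, hh0A⟩ : ∃ h0 ∈ H, h0 ∉ A := by
        by_contra hcon
        push_neg at hcon
        exact hHA hcon
      have hHAn : (H ⊓ A).Normal := by
        refine ⟨fun n hn g => ?_⟩
        obtain ⟨i, a1, ha1, rfl⟩ := decomp A hidx h0 hh0A g
        have h2 : a1 * n * a1⁻¹ = n := by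
          rw [hAcomm a1 ha1 n hn.2]; group
        have h1 : h0 ^ i * a1 * n * (h0 ^ i * a1)⁻¹ = h0 ^ i * n * (h0 ^ i)⁻¹ := by
          calc h0 ^ i * a1 * n * (h0 ^ i * a1)⁻¹ = h0 ^ i * (a1 * n * a1⁻¹) * (h0 ^ i)⁻¹ := by
                group
            _ = h0 ^ i * n * (h0 ^ i)⁻¹ := by rw [h2]
        rw [h1]
        exact Subgroup.mem_inf.2 ⟨mul_mem (mul_mem (pow_mem hh0H i) hn.1) (inv_mem (pow_mem hh0H i)),
          hAn.conj_mem n hn.2 _⟩
      rcases hmin _ hHAn inf_le_right with h | h
      · -- H embeds in G/A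
        set f : H →* G ⧸ A := (QuotientGroup.mk' A).comp H.subtype with hf
        have hfinj : Function.Injective f := by
          rw [injective_iff_map_eq_one]
          intro z hz
          have hzA : (z : G) ∈ A := (QuotientGroup.eq_one_iff _).1 hz
          have : (z : G) ∈ H ⊓ A := ⟨z.2, hzA⟩
          rw [h] at this
          exact Subtype.ext ((Subgroup.mem_bot).1 this)
        have hdvd : Nat.card H ∣ Nat.card (G ⧸ A) := Subgroup.card_dvd_of_injective f hfinj
        have hcard : Nat.card (G ⧸ A) = p := hidx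
        rw [hcard] at hdvd
        have hHp : IsPGroup p H := by
          rcases (Nat.dvd_prime hp).1 hdvd with h2 | h2
          · exact IsPGroup.of_card (n := 0) (by rw [h2, pow_zero])
          · exact IsPGroup.of_card (n := 1) (by rw [h2, pow_one])
        intro P
        have htop : (⊤ : Subgroup H) = P := P.is_maximal' (hHp.to_subgroup ⊤) le_top
        rw [← htop]; infer_instance
      · exfalso
        apply hH
        have hAH : A ≤ H := by rw [← h]; exact inf_le_left
        rw [eq_top_iff]
        intro g _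
        obtain ⟨i, a1, ha1, rfl⟩ := decomp A hidx h0 hh0A g
        exact mul_mem (pow_mem hh0H i) (hAH ha1)
  · -- proper quotients
    intro N hNn hN
    have hNAn : (N ⊓ A).Normal := inferInstance
    rcases hmin _ hNAn inf_le_right with h | h
    · exact absurd (hL6 N hNn h) hN
    · have hAN : A ≤ N := by rw [← h]; exact inf_le_left
      have hdvd : N.index ∣ A.index := Subgroup.index_dvd_of_le hAN
      rw [hidx] at hdvd
      have hQp : IsPGroup p (G ⧸ N) := by
        have hc : Nat.card (G ⧸ N) = N.index := rfl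
        rcases (Nat.dvd_prime hp).1 hdvd with h2 | h2
        · exact IsPGroup.of_card (n := 0) (by rw [hc, h2, pow_zero])
        · exact IsPGroup.of_card (n := 1) (by rw [hc, h2, pow_one])
      intro P
      have htop : (⊤ : Subgroup (G ⧸ N)) = P := P.is_maximal' (hQp.to_subgroup ⊤) le_top
      rw [← htop]; infer_instance

end Cfsg.Agent.Lib.Helper6.MinNPC
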