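import Mathlib
import Cfsg.Agent.Lib.Helper6.MinNPC
import Cfsg.Agent.Lib.Helper6.TateAux

set_option autoImplicit false

namespace Cfsg.Agent.Lib.Helper6.MinNPC2

open Subgroup Pointwise

variable {G : Type*} [Group G] [Finite G] {p : ℕ} [Fact p.Prime]

/-- In a proper (hence `p`-closed) subgroup, a `p`-element commutes with the elements of a normal
`p'`-subgroup `N` of `G` lying in it. -/
theorem comm_aux (hsub : ∀ H : Subgroup G, H ≠ ⊤ → Cfsg.IsPClosed p ↥H)
    (N : Subgroup G) [hNn : N.Normal] (hNp : ¬ p ∣ Nat.card N) (y : G) (hy : orderOf y = p)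
    (H : Subgroup G) (hH : H ≠ ⊤) (hyH : y ∈ H) (n : G) (hnN : n ∈ N) (hnH : n ∈ H) :
    y * n = n * y := by
  have hp : p.Prime := Fact.out
  have hcl := hsub H hH
  have hz : IsPGroup p (zpowers (⟨y, hyH⟩ : H)) := by
    apply IsPGroup.of_card (n := 1)
    rw [Nat.card_zpowers, Subgroup.orderOf_mk, hy, pow_one]
  obtain ⟨S, hS⟩ := hz.exists_le_sylow
  have hSn : (S : Subgroup H).Normal := hcl S
  have hNHn : (N.subgroupOf H).Normal := hNn.subgroupOf H
  have hdisj : Disjoint (S : Subgroup H) (N.subgroupOf H) := by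
    rw [Subgroup.disjoint_def]
    intro z hzS hzN
    obtain ⟨j, hj⟩ := S.isPGroup' ⟨z, hzS⟩
    have hj' : z ^ (p ^ j) = 1 := by
      have := congrArg Subtype.val hj
      simpa using this
    have hzN' : (z : G) ∈ N := Subgroup.mem_subgroupOf.1 hzN
    have h1 : orderOf (z : G) ∣ p ^ j := by
      apply orderOf_dvd_of_pow_eq_one
      have := congrArg Subtype.val hj'
      simpa using this
    have h2 : orderOf (z : G) ∣ Nat.card N := by
      have := orderOf_dvd_natCard (⟨(z : G), hzN'⟩ : N)
      rwa [Subgroup.orderOf_mk] at this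
    have h3 : Nat.Coprime (p ^ j) (Nat.card N) :=
      Nat.Coprime.pow_left j ((Nat.Prime.coprime_iff_not_dvd hp).2 hNp)
    have h4 : orderOf (z : G) = 1 := Nat.eq_one_of_dvd_coprimes h3 h1 h2
    rw [orderOf_eq_one_iff] at h4
    exact Subtype.ext h4
  have hc := Subgroup.commute_of_normal_of_disjoint _ _ hSn hNHn hdisj (⟨y, hyH⟩ : H) ⟨n, hnH⟩
    (hS (mem_zpowers _)) (Subgroup.mem_subgroupOf.2 hnN)
  exact congrArg Subtype.val hc.eq

theorem structure_thm
    (hnc : ¬ Cfsg.IsPClosed p G) (hsub : ∀ H : Subgroup G, H ≠ ⊤ → Cfsg.IsPClosed p ↥H)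
    (hquo : ∀ (N : Subgroup G) [N.Normal], N ≠ ⊥ → Cfsg.IsPClosed p (G ⧸ N))
    (hns : ¬ IsSimpleGroup G) :
    ∃ q : ℕ, q.Prime ∧ q ≠ p ∧ Nat.card G = p * q ^ orderOf (q : ZMod p) ∧
      ∃ A : Subgroup G, A.Normal ∧ Nat.card ↥A = q ^ orderOf (q : ZMod p) ∧
        Cfsg.IsElementaryAbelian q A ∧
        ∀ B : Subgroup G, B.Normal → B ≤ A → B = ⊥ ∨ B = A := by
  classical
  have hp : p.Prime := Fact.out
  obtain ⟨P, hP⟩ : ∃ P : Sylow p G, ¬ (P : Subgroup G).Normal := by
    by_contra h
    push_neg at h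
    exact hnc h
  have hnt : Nontrivial G := by
    by_contra h
    rw [not_nontrivial_iff_subsingleton] at h
    exact hP ⟨fun n hn g => by rwa [Subsingleton.elim (g * n * g⁻¹) n]⟩
  have hna : ¬ IsMulCommutative G := by
    intro h
    exact hP ⟨fun n hn g => by rw [h.is_comm.comm g n, mul_inv_cancel_right]; exact hn⟩
  obtain ⟨N0, hN0n, hN0b, hN0t⟩ : ∃ N0 : Subgroup G, N0.Normal ∧ N0 ≠ ⊥ ∧ N0 ≠ ⊤ := by
    by_contra hcon
    push_neg at hcon
    apply hns
    exact { exists_pair_ne := exists_pair_ne G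
            eq_bot_or_eq_top_of_normal := fun H hH => by
              by_cases hb : H = ⊥
              · exact Or.inl hb
              · exact Or.inr (hcon H hH hb) }
  haveI : Nonempty {B : Subgroup G // B.Normal ∧ B ≠ ⊥} := ⟨⟨N0, hN0n, hN0b⟩⟩
  obtain ⟨⟨N, hNn, hNb⟩, hNmin⟩ := Finite.exists_min
    (fun B : {B : Subgroup G // B.Normal ∧ B ≠ ⊥} => Nat.card B.1)
  haveI := hNn
  have hmin : ∀ B : Subgroup G, B.Normal → B ≤ N → B = ⊥ ∨ B = N := by
    intro B hBn hBN
    by_cases hb : B = ⊥
    · exact Or.inl hb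
    · exact Or.inr (Subgroup.eq_of_le_of_card_ge hBN (hNmin ⟨B, hBn, hb⟩))
  have hNt : N ≠ ⊤ := by
    intro h
    have h1 : Nat.card N ≤ Nat.card N0 := hNmin ⟨N0, hN0n, hN0b⟩
    have h2 : Nat.card N = Nat.card G := by rw [h]; exact Subgroup.card_top
    have h3 : Nat.card N0 ≤ Nat.card G := Subgroup.card_le_card_group N0
    exact hN0t (Subgroup.eq_top_of_card_eq N0 (by omega))
  -- Step 3: P ⊔ N = ⊤
  have hPN : (P : Subgroup G) ⊔ N = ⊤ := by
    by_contra hM
    have hq := hquo N hNb
    set Pb : Sylow p (G ⧸ N) := P.mapSurjective (QuotientGroup.mk'_surjective N) with hPb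
    have hPbn : (Pb : Subgroup (G ⧸ N)).Normal := hq Pb
    have hMn : ((P : Subgroup G) ⊔ N).Normal := by
      have h1 : (Pb : Subgroup (G ⧸ N)).comap (QuotientGroup.mk' N) = (P : Subgroup G) ⊔ N := by
        rw [hPb, Sylow.coe_mapSurjective, Subgroup.comap_map_eq, QuotientGroup.ker_mk']
      rw [← h1]
      exact hPbn.comap _
    have hcl := hsub _ hM
    have hPM : (P : Subgroup G) ≤ (P : Subgroup G) ⊔ N := le_sup_left
    set PM : Sylow p ((P : Subgroup G) ⊔ N : Subgroup G) := P.subtype hPM with hPMdef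
    haveI := Sylow.unique_of_normal PM (hcl PM)
    apply hP
    refine ⟨fun n hn g => ?_⟩
    have hle : ((g • P : Sylow p G) : Subgroup G) ≤ (P : Subgroup G) ⊔ N := by
      intro m hm
      rw [Sylow.coe_subgroup_smul, Subgroup.mem_pointwise_smul_iff_inv_smul_mem] at hm
      have h2 : (MulAut.conj g)⁻¹ • m ∈ (P : Subgroup G) ⊔ N := hPM hm
      have h3 := hMn.conj_mem _ h2 g
      have h4 : g * ((MulAut.conj g)⁻¹ • m) * g⁻¹ = m := by
        simp [MulAut.smul_def]
        group
      rwa [h4] at h3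
    have heq : (g • P : Sylow p G).subtype hle = PM := Subsingleton.elim _ _
    have heq2 : ((g • P : Sylow p G) : Subgroup G) = (P : Subgroup G) := by
      have h5 : (((g • P : Sylow p G).subtype hle :
          Sylow p ((P : Subgroup G) ⊔ N : Subgroup G)) :
          Subgroup ((P : Subgroup G) ⊔ N : Subgroup G)) = (PM : Subgroup _) := by rw [heq]
      simp only [hPMdef, Sylow.coe_subtype] at h5
      rw [Subgroup.subgroupOf_inj, inf_of_le_left hle, inf_of_le_left hPM] at h5
      exact h5
    rw [← heq2, Sylow.coe_subgroup_smul]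
    exact Subgroup.smul_mem_pointwise_smul n (MulAut.conj g) (P : Subgroup G) hn
  -- Step 4: N is a p'-group
  have hNp : ¬ p ∣ Nat.card N := by
    intro hdvd
    have hcl := hsub N hNt
    let S : Sylow p N := default
    have hSn : (S : Subgroup N).Normal := hcl S
    haveI hSc : (S : Subgroup N).Characteristic := Sylow.characteristic_of_normal S hSn
    have hS'n : ((S : Subgroup N).map N.subtype).Normal :=
      ConjAct.normal_of_characteristic_of_normal
    rcases hmin _ hS'n (Subgroup.map_subtype_le _) with h | h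
    · have : (S : Subgroup N) = ⊥ :=
        (Subgroup.map_eq_bot_iff_of_injective _ N.subtype_injective).1 h
      exact S.ne_bot_of_dvd_card hdvd this
    · have hNpg : IsPGroup p N := by
        have h1 : IsPGroup p ((S : Subgroup N).map N.subtype) := S.isPGroup'.map N.subtype
        rw [h] at h1
        exact h1
      have h2 : IsPGroup p ((P : Subgroup G) ⊔ N : Subgroup G) :=
        IsPGroup.to_sup_of_normal_right P.isPGroup' hNpg
      have h3 := P.is_maximal' h2 le_sup_left
      rw [hPN] at h3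
      apply hP
      rw [← h3]
      infer_instance
  -- Step 5
  have hdecomp : ∀ g : G, ∃ u ∈ (P : Subgroup G), ∃ n ∈ N, g = u * n := by
    intro g
    have hg : g ∈ ((P : Subgroup G) ⊔ N : Subgroup G) := by rw [hPN]; trivial
    rw [← SetLike.mem_coe, Subgroup.mul_normal] at hg
    obtain ⟨u, hu, n, hn, hun⟩ := Set.mem_mul.1 hg
    exact ⟨u, hu, n, hn, hun.symm⟩
  have hCbot : ∀ c ∈ (P : Subgroup G), c ∈ centralizer (N : Set G) → c = 1 := by
    intro c0 hc0P hc0C
    by_contra hc01
    set C : Subgroup G := (P : Subgroup G) ⊓ centralizer (N : Set G) with hC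
    have hCn : C.Normal := by
      refine ⟨fun c hc g => ?_⟩
      obtain ⟨u, hu, n, hn, rfl⟩ := hdecomp g
      have hcN : n * c * n⁻¹ = c := by
        have := (mem_centralizer_iff.1 hc.2) n hn
        rw [this]; group
      have h1 : u * n * c * (u * n)⁻¹ = u * c * u⁻¹ := by
        calc u * n * c * (u * n)⁻¹ = u * (n * c * n⁻¹) * u⁻¹ := by group
          _ = u * c * u⁻¹ := by rw [hcN]
      rw [h1]
      refine Subgroup.mem_inf.2 ⟨mul_mem (mul_mem hu hc.1) (inv_mem hu), ?_⟩
      exact (inferInstance : (centralizer (N : Set G)).Normal).conj_mem c hc.2 u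
    have hCb : C ≠ ⊥ := by
      intro h
      have : c0 ∈ C := Subgroup.mem_inf.2 ⟨hc0P, hc0C⟩
      rw [h] at this
      exact hc01 ((Subgroup.mem_bot).1 this)
    haveI := hCn
    have hq := hquo C hCb
    set Pb : Sylow p (G ⧸ C) := P.mapSurjective (QuotientGroup.mk'_surjective C) with hPb
    have hPbn : (Pb : Subgroup (G ⧸ C)).Normal := hq Pb
    apply hP
    have h1 : (Pb : Subgroup (G ⧸ C)).comap (QuotientGroup.mk' C) = (P : Subgroup G) := by
      rw [hPb, Sylow.coe_mapSurjective, Subgroup.comap_map_eq, QuotientGroup.ker_mk',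
        sup_eq_left]
      exact inf_le_left
    rw [← h1]
    exact hPbn.comap _
  have hPb : (P : Subgroup G) ≠ ⊥ := by
    intro h
    apply hP
    rw [h]; infer_instance
  obtain ⟨y, hyP, hy⟩ : ∃ y ∈ (P : Subgroup G), orderOf y = p := by
    have hpP : p ∣ Nat.card (P : Subgroup G) := by
      obtain ⟨k, hk⟩ := (IsPGroup.iff_card).1 P.isPGroup'
      rw [hk]
      apply dvd_pow_self
      rintro rfl
      rw [pow_zero] at hk
      exact hPb (Subgroup.card_eq_one.1 hk)
    obtain ⟨y, hy⟩ := exists_prime_orderOf_dvd_card' p hpP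
    exact ⟨(y : G), y.2, by rw [Subgroup.orderOf_coe]; exact hy⟩
  have hy1 : y ≠ 1 := by
    intro h
    rw [h, orderOf_one] at hy
    exact hp.one_lt.ne' hy.symm
  have hyN : y ∉ N := by
    intro h
    apply hNp
    have := orderOf_dvd_natCard (⟨y, h⟩ : N)
    rwa [Subgroup.orderOf_mk, hy] at this
  have hsupy : zpowers y ⊔ N = ⊤ := by
    by_contra hH
    apply hy1
    apply hCbot y hyP
    rw [mem_centralizer_iff]
    intro n hn
    exact (comm_aux hsub N hNp y hy _ hH (mem_sup_left (mem_zpowers y)) n hn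
      (mem_sup_right hn)).symm
  have hidx : N.index = p := by
    have h1 : N.index = N.relIndex (zpowers y) := by
      rw [← relIndex_top_right, ← hsupy, relIndex_sup_right]
    have h2 : N.relIndex (zpowers y) ∣ p := by
      have := Subgroup.relIndex_dvd_card N (zpowers y)
      rwa [Nat.card_zpowers, hy] at this
    rw [← h1] at h2
    rcases (Nat.dvd_prime hp).1 h2 with h3 | h3
    · exact absurd (Subgroup.index_eq_one.1 h3) hNt
    · exact h3
  -- Step 6: N is a q-group
  have hK : ∀ r : ℕ, r.Prime → ∃ R : Sylow r N,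
      (R : Subgroup N).map N.subtype = N ∨ ∀ n : N, n ∈ R → y * (n : G) = (n : G) * y := by
    intro r hr
    haveI : Fact r.Prime := ⟨hr⟩
    have hzp : IsPGroup p (zpowers y) :=
      IsPGroup.of_card (n := 1) (by rw [Nat.card_zpowers, hy, pow_one])
    letI : MulAction (zpowers y) (Sylow r N) :=
      MulAction.compHom (Sylow r N) ((MulAut.conjNormal : G →* MulAut N).comp (zpowers y).subtype)
    have hcard : ¬ p ∣ Nat.card (Sylow r N) := by
      intro hd
      let R0 : Sylow r N := default
      have h1 : Nat.card (Sylow r N) ∣ (R0 : Subgroup N).index := Sylow.card_dvd_index R0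
      have h2 : (R0 : Subgroup N).index ∣ Nat.card N := Subgroup.index_dvd_card _
      exact hNp (hd.trans (h1.trans h2))
    obtain ⟨R, hR⟩ := hzp.nonempty_fixed_point_of_prime_not_dvd_card (Sylow r N) hcard
    refine ⟨R, ?_⟩
    have hfix : (MulAut.conjNormal y : MulAut N) • R = R :=
      hR ⟨y, mem_zpowers y⟩
    have hconj : ∀ n : N, n ∈ R → (MulAut.conjNormal y : MulAut N) n ∈ R := by
      intro n hn
      have h1 : (MulAut.conjNormal y : MulAut N) • n ∈
          ((MulAut.conjNormal y : MulAut N) • (R : Subgroup N)) :=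
        Subgroup.smul_mem_pointwise_smul n _ _ hn
      have h2 : (((MulAut.conjNormal y : MulAut N) • R : Sylow r N) : Subgroup N) =
          (MulAut.conjNormal y : MulAut N) • (R : Subgroup N) := rfl
      rw [← h2, hfix] at h1
      exact h1
    set R' : Subgroup G := (R : Subgroup N).map N.subtype with hR'
    have hyR' : y ∈ normalizer (R' : Set G) := by
      apply TateAux.mem_normalizer_of_conj_le
      intro x hx
      obtain ⟨n, hn, rfl⟩ := Subgroup.mem_map.1 hx
      exact Subgroup.mem_map.2 ⟨_, hconj n hn, rfl⟩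
    by_cases hnorm : normalizer (R' : Set G) = ⊤
    · have hR'n : R'.Normal := Subgroup.normalizer_eq_top_iff.1 hnorm
      rcases hmin R' hR'n (Subgroup.map_subtype_le _) with h | h
      · right
        intro n hn
        have : (n : G) ∈ R' := Subgroup.mem_map.2 ⟨n, hn, rfl⟩
        rw [h, Subgroup.mem_bot] at this
        rw [this, mul_one, one_mul]
      · left; exact h
    · right
      intro n hn
      have hnR' : (n : G) ∈ R' := Subgroup.mem_map.2 ⟨n, hn, rfl⟩
      exact comm_aux hsub N hNp y hy _ hnorm hyR' (n : G) n.2 (le_normalizer hnR')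
  obtain ⟨q, hq, R, hRN⟩ : ∃ q : ℕ, q.Prime ∧ ∃ R : Sylow q N,
      (R : Subgroup N).map N.subtype = N := by
    by_contra hcon
    push_neg at hcon
    apply hy1
    apply hCbot y hyP
    set D : Subgroup N := (centralizer ({y} : Set G)).subgroupOf N with hD
    have hDtop : D = ⊤ := by
      by_contra hDne
      have hidx1 : D.index ≠ 1 := fun h => hDne (Subgroup.index_eq_one.1 h)
      obtain ⟨r, hr, hrd⟩ := Nat.exists_prime_and_dvd hidx1
      haveI : Fact r.Prime := ⟨hr⟩
      obtain ⟨R, hR⟩ := hK r hr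
      rcases hR with hR | hR
      · exact hcon r hr R hR
      · have hle : (R : Subgroup N) ≤ D := by
          intro n hn
          rw [hD, Subgroup.mem_subgroupOf, mem_centralizer_iff]
          intro z hz
          rw [Set.mem_singleton_iff] at hz
          rw [hz]
          exact hR n hn
        have h1 : D.index ∣ (R : Subgroup N).index := Subgroup.index_dvd_of_le hle
        exact R.not_dvd_index (hrd.trans h1)
    rw [mem_centralizer_iff]
    intro n hn
    have : (⟨n, hn⟩ : N) ∈ D := by rw [hDtop]; trivial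
    rw [hD, Subgroup.mem_subgroupOf, mem_centralizer_iff] at this
    exact (this y (Set.mem_singleton y)).symm
  haveI : Fact q.Prime := ⟨hq⟩
  have hRtop : ∀ n : N, n ∈ (R : Subgroup N) := by
    intro n
    have : (n : G) ∈ (R : Subgroup N).map N.subtype := by rw [hRN]; exact n.2
    obtain ⟨m, hm, hmn⟩ := Subgroup.mem_map.1 this
    have : m = n := Subtype.ext hmn
    rw [← this]; exact hm
  have hNq : IsPGroup q N := by
    intro n
    obtain ⟨k, hk⟩ := R.isPGroup' ⟨n, hRtop n⟩
    refine ⟨k, ?_⟩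
    have := congrArg Subtype.val hk
    simpa using this
  haveI hNnt : Nontrivial N := (Subgroup.nontrivial_iff_ne_bot N).2 hNb
  have hqN : q ∣ Nat.card N := by
    obtain ⟨k, hk⟩ := (IsPGroup.iff_card).1 hNq
    rw [hk]
    apply dvd_pow_self
    rintro rfl
    rw [pow_zero] at hk
    exact hNb (Subgroup.card_eq_one.1 hk)
  have hqp : q ≠ p := by
    rintro rfl
    exact hNp hqN
  -- Step 7: N elementary abelian
  have hNcomm : ∀ a b : N, a * b = b * a := by
    have hZn : ((center N).map N.subtype).Normal := ConjAct.normal_of_characteristic_of_normal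
    have hZb : (center N).map N.subtype ≠ ⊥ := by
      intro h
      have h1 : center N = ⊥ := (Subgroup.map_eq_bot_iff_of_injective _ N.subtype_injective).1 h
      have h2 := IsPGroup.center_nontrivial hNq
      rw [Subgroup.nontrivial_iff_ne_bot] at h2
      exact h2 h1
    rcases hmin _ hZn (Subgroup.map_subtype_le _) with h | h
    · exact absurd h hZb
    · intro a b
      have : (b : G) ∈ (center N).map N.subtype := by rw [h]; exact b.2
      obtain ⟨m, hm, hmb⟩ := Subgroup.mem_map.1 this
      have hmb' : m = b := Subtype.ext hmb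
      rw [hmb'] at hm
      exact Subgroup.mem_center_iff.1 hm a
  have hNexp : ∀ a ∈ N, a ^ q = 1 := by
    let B : Subgroup G :=
      { carrier := {a | a ∈ N ∧ a ^ q = 1}
        mul_mem' := by
          rintro a b ⟨ha, ha'⟩ ⟨hb, hb'⟩
          refine ⟨mul_mem ha hb, ?_⟩
          have hc : Commute a b := congrArg Subtype.val (hNcomm ⟨a, ha⟩ ⟨b, hb⟩)
          rw [hc.mul_pow, ha', hb', one_mul]
        one_mem' := ⟨one_mem _, one_pow _⟩
        inv_mem' := by
          rintro a ⟨ha, ha'⟩
          exact ⟨inv_mem ha, by rw [inv_pow, ha', inv_one]⟩ }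
    have hBn : B.Normal := by
      refine ⟨fun a ha g => ?_⟩
      obtain ⟨ha1, ha2⟩ := ha
      exact ⟨hNn.conj_mem a ha1 g, by rw [conj_pow, ha2, mul_one, mul_inv_cancel]⟩
    have hBN : B ≤ N := fun a ha => ha.1
    have hBb : B ≠ ⊥ := by
      obtain ⟨z, hz⟩ := exists_prime_orderOf_dvd_card' q hqN
      intro h
      have hzB : (z : G) ∈ B := by
        refine ⟨z.2, ?_⟩
        have h1 : z ^ q = 1 := by rw [← hz, pow_orderOf_eq_one]
        have := congrArg Subtype.val h1
        simpa using this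
      rw [h, Subgroup.mem_bot] at hzB
      have hz1 : z = 1 := Subtype.ext hzB
      rw [hz1, orderOf_one] at hz
      exact hq.one_lt.ne' hz.symm
    rcases hmin B hBn hBN with h | h
    · exact absurd h hBb
    · intro a ha
      have : a ∈ B := by rw [h]; exact ha
      exact this.2
  have hA : Cfsg.IsElementaryAbelian q N := ⟨⟨⟨hNcomm⟩⟩, hNexp⟩
  have hmain := MinNPC.main hq hqp hna N hA hidx hmin
  refine ⟨q, hq, hqp, ?_, N, hNn, hmain.1, hA, hmin⟩
  rw [← N.card_mul_index, hidx, hmain.1, mul_comm]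

end Cfsg.Agent.Lib.Helper6.MinNPC2
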