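import Mathlib
import Cfsg.Agent.S0095
import Cfsg.Agent.Lib.Helper6.Index

set_option autoImplicit false

namespace Cfsg.Agent.Lib.Helper6.P4Abel

open Cfsg.Agent.Lib.Helper6
open scoped commutatorElement

theorem comm_mul_left' {S : Type*} [Group S] (a : S)
    (h : ∀ s : S, ⁅s, a⁆ ∈ Subgroup.center S) (s t : S) : ⁅s * t, a⁆ = ⁅s, a⁆ * ⁅t, a⁆ := by
  have e : ⁅s * t, a⁆ = s * ⁅t, a⁆ * s⁻¹ * ⁅s, a⁆ := by
    simp only [commutatorElement_def]; group
  rw [e, Subgroup.mem_center_iff.1 (h t) s, mul_inv_cancel_right]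
  exact Subgroup.mem_center_iff.1 (h s) ⁅t, a⁆

def commHomL {S : Type*} [Group S] (a : S) (h : ∀ s : S, ⁅s, a⁆ ∈ Subgroup.center S) :
    S →* ↥(Subgroup.center S) where
  toFun s := ⟨⁅s, a⁆, h s⟩
  map_one' := by apply Subtype.ext; simp
  map_mul' s t := by
    apply Subtype.ext
    exact comm_mul_left' a h s t

theorem mem_ker_commHomL {S : Type*} [Group S] (a : S)
    (h : ∀ s : S, ⁅s, a⁆ ∈ Subgroup.center S) (s : S) :
    s ∈ (commHomL a h).ker ↔ s * a = a * s := by
  rw [MonoidHom.mem_ker]
  constructor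
  · intro h1
    have h2 : ⁅s, a⁆ = 1 := congrArg Subtype.val h1
    exact (commutatorElement_eq_one_iff_commute.1 h2).eq
  · intro h1
    apply Subtype.ext
    show ⁅s, a⁆ = 1
    exact commutatorElement_eq_one_iff_commute.2 h1

theorem exists_abelian_index_p {S : Type*} [Group S] [Finite S] (p : ℕ) [Fact p.Prime]
    (hcard : Nat.card S = p ^ 4) (hna : ¬ IsMulCommutative S) :
    ∃ A : Subgroup S, IsMulCommutative ↥A ∧ A.index = p := by
  classical
  have hp : p.Prime := Fact.out
  have hS : IsPGroup p S := IsPGroup.of_card hcard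
  have hZtop : Subgroup.center S ≠ ⊤ := by
    intro h
    apply hna
    exact ⟨⟨fun a b => by
      have h1 : b ∈ Subgroup.center S := by rw [h]; trivial
      exact Subgroup.mem_center_iff.1 h1 a⟩⟩
  haveI hnt : Nontrivial (S ⧸ Subgroup.center S) := by
    rw [← Finite.one_lt_card_iff_nontrivial]
    have h1 : (Subgroup.center S).index ≠ 1 := fun h => hZtop (Subgroup.index_eq_one.1 h)
    have h2 : (Subgroup.center S).index ≠ 0 := Subgroup.index_ne_zero_of_finite
    have h3 : Nat.card (S ⧸ Subgroup.center S) = (Subgroup.center S).index := rfl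
    omega
  have hQp : IsPGroup p (S ⧸ Subgroup.center S) := hS.to_quotient (Subgroup.center S)
  haveI hcn := hQp.center_nontrivial
  have hdvd : p ∣ Nat.card (Subgroup.center (S ⧸ Subgroup.center S)) := by
    obtain ⟨k, hk⟩ := IsPGroup.iff_card.1 (hQp.to_subgroup (Subgroup.center (S ⧸ Subgroup.center S)))
    have h1 := Finite.one_lt_card_iff_nontrivial.2 hcn
    have hk0 : k ≠ 0 := by
      rintro rfl
      rw [pow_zero] at hk
      omega
    rw [hk]
    exact dvd_pow_self p hk0
  obtain ⟨ā, hā⟩ := exists_prime_orderOf_dvd_card' p hdvd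
  obtain ⟨a, ha⟩ := QuotientGroup.mk_surjective ā.1
  have haZ : a ∉ Subgroup.center S := by
    intro h
    have h1 : ā.1 = 1 := by rw [← ha]; exact (QuotientGroup.eq_one_iff a).2 h
    have h2 : ā = 1 := Subtype.ext h1
    rw [h2, orderOf_one] at hā
    exact hp.one_lt.ne hā
  have hcomm : ∀ s : S, ⁅s, a⁆ ∈ Subgroup.center S := by
    intro s
    rw [← QuotientGroup.eq_one_iff]
    have h1 : ((⁅s, a⁆ : S) : S ⧸ Subgroup.center S) =
        ⁅(s : S ⧸ Subgroup.center S), (a : S ⧸ Subgroup.center S)⁆ := by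
      simp [commutatorElement_def]
    rw [h1, ha, commutatorElement_eq_one_iff_commute]
    exact Subgroup.mem_center_iff.1 ā.2 _
  have hmem := mem_ker_commHomL a hcomm
  have haA : a ∈ (commHomL a hcomm).ker := (hmem a).2 rfl
  have hZA : Subgroup.center S ≤ (commHomL a hcomm).ker := by
    intro z hz
    exact (hmem z).2 (Subgroup.mem_center_iff.1 hz a).symm
  have hAtop : (commHomL a hcomm).ker ≠ ⊤ := by
    intro h
    apply haZ
    rw [Subgroup.mem_center_iff]
    intro g
    have h1 : g ∈ (commHomL a hcomm).ker := by rw [h]; trivial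
    exact (hmem g).1 h1
  have hidx1 : (commHomL a hcomm).ker.index ≤ Nat.card ↥(Subgroup.center S) := by
    rw [Subgroup.index_ker]
    exact Nat.le_of_dvd Nat.card_pos (Subgroup.card_subgroup_dvd_card _)
  have hZltA : Nat.card ↥(Subgroup.center S) < Nat.card ↥(commHomL a hcomm).ker := by
    have h1 := Subgroup.card_le_of_le hZA
    rcases Nat.lt_or_ge (Nat.card ↥(Subgroup.center S)) (Nat.card ↥(commHomL a hcomm).ker) with h | h
    · exact h
    · exfalso
      exact haZ ((Subgroup.eq_of_le_of_card_ge hZA h).symm ▸ haA)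
  have hmul := Subgroup.index_mul_card (commHomL a hcomm).ker
  rw [hcard] at hmul
  generalize (commHomL a hcomm).ker = A at hmem haA hZA hAtop hidx1 hZltA hmul
  have hAdvd : A.index ∣ p ^ 4 := Dvd.intro _ hmul
  obtain ⟨j, hj4, hj⟩ := (Nat.dvd_prime_pow hp).1 hAdvd
  have hcardA : Nat.card A = p ^ (4 - j) := by
    have h1 : p ^ j * Nat.card A = p ^ j * p ^ (4 - j) := by
      have h2 : j + (4 - j) = 4 := by omega
      rw [← pow_add, h2, ← hmul, hj]
    exact Nat.eq_of_mul_eq_mul_left (pow_pos hp.pos j) h1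
  have hjlt : j < 4 - j := by
    have h1 : p ^ j < p ^ (4 - j) := by
      rw [← hj, ← hcardA]; exact lt_of_le_of_lt hidx1 hZltA
    exact (Nat.pow_lt_pow_iff_right hp.one_lt).1 h1
  have hj0 : j ≠ 0 := by
    rintro rfl
    rw [pow_zero] at hj
    exact hAtop (Subgroup.index_eq_one.1 hj)
  have hj1 : j = 1 := by omega
  subst hj1
  rw [pow_one] at hj
  have hcardA3 : Nat.card A = p ^ 3 := hcardA
  refine ⟨A, ?_, hj⟩
  -- center of A
  have hle : (Subgroup.center S).subgroupOf A ≤ Subgroup.center ↥A := by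
    intro z hz
    rw [Subgroup.mem_subgroupOf] at hz
    rw [Subgroup.mem_center_iff]
    intro g
    apply Subtype.ext
    exact Subgroup.mem_center_iff.1 hz g.1
  have haZA : (⟨a, haA⟩ : ↥A) ∈ Subgroup.center ↥A := by
    rw [Subgroup.mem_center_iff]
    intro g
    apply Subtype.ext
    exact (hmem g.1).1 g.2
  have hcZ : Nat.card ↥((Subgroup.center S).subgroupOf A) = Nat.card ↥(Subgroup.center S) :=
    Nat.card_congr (Subgroup.subgroupOfEquivOfLe hZA).toEquiv
  have hlt : Nat.card ↥(Subgroup.center S) < Nat.card ↥(Subgroup.center ↥A) := by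
    rw [← hcZ]
    have h1 := Subgroup.card_le_of_le hle
    rcases Nat.lt_or_ge (Nat.card ↥((Subgroup.center S).subgroupOf A))
      (Nat.card ↥(Subgroup.center ↥A)) with h | h
    · exact h
    · exfalso
      have h2 : (⟨a, haA⟩ : ↥A) ∈ (Subgroup.center S).subgroupOf A :=
        (Subgroup.eq_of_le_of_card_ge hle h).symm ▸ haZA
      exact haZ (Subgroup.mem_subgroupOf.1 h2)
  haveI hSnt : Nontrivial S := by
    rw [← Finite.one_lt_card_iff_nontrivial, hcard]
    exact Nat.one_lt_pow (by norm_num) hp.one_lt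
  have hpZ : p ≤ Nat.card ↥(Subgroup.center S) := by
    haveI := hS.center_nontrivial
    obtain ⟨k, hk⟩ := IsPGroup.iff_card.1 (hS.to_subgroup (Subgroup.center S))
    have h1 := Finite.one_lt_card_iff_nontrivial.2 (inferInstance : Nontrivial ↥(Subgroup.center S))
    have hk0 : k ≠ 0 := by
      rintro rfl
      rw [pow_zero] at hk
      omega
    rw [hk]
    exact Nat.le_self_pow hk0 p
  have hmulA := Subgroup.index_mul_card (Subgroup.center ↥A)
  rw [hcardA3] at hmulA
  have hZAdvd : Nat.card ↥(Subgroup.center ↥A) ∣ p ^ 3 := Dvd.intro_left _ hmulA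
  obtain ⟨i, hi3, hi⟩ := (Nat.dvd_prime_pow hp).1 hZAdvd
  have hi2 : 2 ≤ i := by
    have h1 : p ^ 1 < p ^ i := by
      rw [pow_one, ← hi]; exact lt_of_le_of_lt hpZ hlt
    have := (Nat.pow_lt_pow_iff_right hp.one_lt).1 h1
    omega
  have hidxA : (Subgroup.center ↥A).index = p ^ (3 - i) := by
    have h1 : (Subgroup.center ↥A).index * p ^ i = p ^ (3 - i) * p ^ i := by
      have h2 : 3 - i + i = 3 := by omega
      rw [← pow_add, h2, ← hmulA, hi]
    exact Nat.eq_of_mul_eq_mul_right (pow_pos hp.pos i) h1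
  haveI hcyc : IsCyclic (↥A ⧸ Subgroup.center ↥A) := by
    have h3 : Nat.card (↥A ⧸ Subgroup.center ↥A) = p ^ (3 - i) := hidxA
    rcases Nat.lt_or_ge i 3 with h | h
    · have h4 : 3 - i = 1 := by omega
      rw [h4, pow_one] at h3
      haveI : Fact (Nat.card (↥A ⧸ Subgroup.center ↥A)).Prime := ⟨by rw [h3]; exact hp⟩
      exact isCyclic_of_prime_card (p := Nat.card (↥A ⧸ Subgroup.center ↥A)) rfl
    · have h4 : 3 - i = 0 := by omega
      rw [h4, pow_zero] at h3
      haveI : Subsingleton (↥A ⧸ Subgroup.center ↥A) := (Nat.card_eq_one_iff_unique.1 h3).1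
      exact isCyclic_of_subsingleton
  exact isMulCommutative_of_isCyclic_quotient_center_self ↥A

theorem card_le_of_abelian_index_p {P : Type*} [Group P] [Finite P] (p : ℕ) [Fact p.Prime]
    (hcomm : commutator P = Subgroup.center P) (hZ : Nat.card (Subgroup.center P) = p)
    (B : Subgroup P) (hB : IsMulCommutative ↥B) (hBi : B.index = p) : Nat.card P ≤ p ^ 3 := by
  classical
  have hp : p.Prime := Fact.out
  have hBtop : B ≠ ⊤ := by
    intro h
    rw [h, Subgroup.index_top] at hBi
    exact hp.one_lt.ne hBi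
  obtain ⟨y, hy⟩ : ∃ y : P, y ∉ B := by
    by_contra hc
    push Not at hc
    exact hBtop (eq_top_iff.2 fun x _ => hc x)
  have hZc : ∀ a b : P, ⁅a, b⁆ ∈ Subgroup.center P := by
    intro a b
    rw [← hcomm]
    exact Subgroup.commutator_mem_commutator (Subgroup.mem_top a) (Subgroup.mem_top b)
  have hker : (Cfsg.Agent.S0095.commHom (Subgroup.center P) hZc le_rfl y).ker =
      Subgroup.centralizer ({y} : Set P) := by
    ext g
    rw [MonoidHom.mem_ker]
    exact Cfsg.Agent.S0095.commHom_eq_one_iff (Subgroup.center P) hZc le_rfl y g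
  have hCidx : (Subgroup.centralizer ({y} : Set P)).index ≤ p := by
    rw [← hker, Subgroup.index_ker, ← hZ]
    exact Nat.le_of_dvd Nat.card_pos (Subgroup.card_subgroup_dvd_card _)
  have hcen : B ⊓ Subgroup.centralizer ({y} : Set P) ≤ Subgroup.center P := by
    rintro d ⟨hdB, hdC⟩
    have hBK : B ≤ Subgroup.centralizer ({d} : Set P) := by
      intro b hb
      rw [Subgroup.mem_centralizer_singleton_iff]
      have h1 := hB.is_comm.comm (⟨b, hb⟩ : ↥B) ⟨d, hdB⟩
      exact congrArg Subtype.val h1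
    have hyK : y ∈ Subgroup.centralizer ({d} : Set P) := by
      rw [Subgroup.mem_centralizer_singleton_iff]
      exact (Subgroup.mem_centralizer_singleton_iff.1 hdC).symm
    have hKdvd : (Subgroup.centralizer ({d} : Set P)).index ∣ p := by
      rw [← hBi]; exact Subgroup.index_dvd_of_le hBK
    have hKtop : Subgroup.centralizer ({d} : Set P) = ⊤ := by
      rcases (Nat.dvd_prime hp).1 hKdvd with h | h
      · exact Subgroup.index_eq_one.1 h
      · exfalso
        have h1 := Subgroup.index_mul_card (Subgroup.centralizer ({d} : Set P))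
        have h2 := Subgroup.index_mul_card B
        rw [h] at h1
        rw [hBi, ← h1] at h2
        have h3 : Nat.card B = Nat.card ↥(Subgroup.centralizer ({d} : Set P)) :=
          Nat.eq_of_mul_eq_mul_left hp.pos h2
        have h4 := Subgroup.eq_of_le_of_card_ge hBK h3.ge
        exact hy (h4 ▸ hyK)
    rw [Subgroup.mem_center_iff]
    intro g
    have h1 : g ∈ Subgroup.centralizer ({d} : Set P) := by rw [hKtop]; trivial
    exact Subgroup.mem_centralizer_singleton_iff.1 h1
  have h1 := Index.card_eq_card_mul_relIndex (B ⊓ Subgroup.centralizer ({y} : Set P)) B inf_le_left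
  rw [Subgroup.inf_relIndex_left] at h1
  have h2 : (Subgroup.centralizer ({y} : Set P)).relIndex B ≤ p := by
    have h3 : (Subgroup.centralizer ({y} : Set P)).relIndex B ≤
        (Subgroup.centralizer ({y} : Set P)).relIndex ⊤ :=
      Subgroup.relIndex_le_of_le_right le_top (Index.relIndex_pos _ _).ne'
    rw [Subgroup.relIndex_top_right] at h3
    exact h3.trans hCidx
  have h4 : Nat.card ↥(B ⊓ Subgroup.centralizer ({y} : Set P)) ≤ p := by
    rw [← hZ]; exact Subgroup.card_le_of_le hcen
  have h5 := Subgroup.index_mul_card B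
  rw [hBi, h1] at h5
  rw [← h5]
  calc p * (Nat.card ↥(B ⊓ Subgroup.centralizer ({y} : Set P)) *
        (Subgroup.centralizer ({y} : Set P)).relIndex B) ≤ p * (p * p) := by gcongr
    _ = p ^ 3 := by ring

end Cfsg.Agent.Lib.Helper6.P4Abel
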