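import Mathlib

namespace Cfsg.Agent.Lib.Helper6.PrimeGraph3

open scoped commutatorElement

theorem norm_argument {F V : Type*} [Group F] [CommGroup V] (φ : F →* MulAut V)
    (Q : Subgroup F) [Finite Q] (z : F) (r : ℕ) (hr : 0 < r)
    (hzQ : ∀ y ∈ Q, z * y * z⁻¹ ∈ Q)
    (hzr : z ^ r = 1)
    (hQz : ∀ i, 0 < i → i < r → ∀ y ∈ Q, y * z ^ i = z ^ i * y → y = 1)
    (hVz : ∀ v : V, φ z v = v → v = 1)
    (hVQ : ∀ v : V, (∀ y ∈ Q, φ y v = v) → v = 1) (v : V) :
    v ^ Nat.card Q = 1 := by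
  classical
  haveI : Fintype Q := Fintype.ofFinite Q
  have key1 : ∀ w : V, ∏ i ∈ Finset.range r, φ (z ^ i) w = 1 := by
    intro w
    apply hVz
    rw [map_prod]
    have h1 : ∀ i ∈ Finset.range r, φ z (φ (z ^ i) w) = φ (z ^ (i + 1)) w := by
      intro i _
      rw [pow_succ', map_mul, MulAut.mul_apply]
    rw [Finset.prod_congr rfl h1]
    have h2 := Finset.prod_range_succ (fun i => φ (z ^ i) w) r
    have h3 := Finset.prod_range_succ' (fun i => φ (z ^ i) w) r
    rw [h2] at h3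
    simp only [hzr, pow_zero] at h3
    exact (mul_right_cancel h3).symm
  have hzn : ∀ n : ℕ, ∀ y ∈ Q, z ^ n * y * (z ^ n)⁻¹ ∈ Q := by
    intro n
    induction n with
    | zero => intro y hy; simpa using hy
    | succ n ih =>
      intro y hy
      have := hzQ _ (ih y hy)
      have e : z ^ (n + 1) * y * (z ^ (n + 1))⁻¹ = z * (z ^ n * y * (z ^ n)⁻¹) * z⁻¹ := by
        rw [pow_succ']; group
      rw [e]; exact this
  have key2 : ∀ w : V, ∏ u : Q, φ (u : F) w = 1 := by
    intro w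
    apply hVQ
    intro y hy
    rw [map_prod]
    have h1 : ∀ u : Q, φ y (φ (u : F) w) = φ (((⟨y, hy⟩ : Q) * u : Q) : F) w := by
      intro u
      rw [Subgroup.coe_mul, map_mul, MulAut.mul_apply]
    rw [Finset.prod_congr rfl (fun u _ => h1 u)]
    exact Equiv.prod_comp (Equiv.mulLeft (⟨y, hy⟩ : Q)) (fun u : Q => φ (u : F) w)
  have hT1 : ∏ y : Q, ∏ i ∈ Finset.range r, φ ((y : F) * z ^ i * (y : F)⁻¹) v = 1 := by
    apply Finset.prod_eq_one
    intro y _
    have h1 : ∀ i ∈ Finset.range r, φ ((y : F) * z ^ i * (y : F)⁻¹) v =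
        φ (y : F) (φ (z ^ i) (φ (y : F)⁻¹ v)) := by
      intro i _
      rw [map_mul, map_mul, MulAut.mul_apply, MulAut.mul_apply]
    rw [Finset.prod_congr rfl h1, ← map_prod, key1, map_one]
  have hT2 : ∏ y : Q, ∏ i ∈ Finset.range r, φ ((y : F) * z ^ i * (y : F)⁻¹) v =
      v ^ Nat.card Q := by
    rw [Finset.prod_comm]
    obtain ⟨r', rfl⟩ := Nat.exists_eq_succ_of_ne_zero hr.ne'
    rw [Finset.prod_range_succ']
    have h0 : ∏ y : Q, φ ((y : F) * z ^ 0 * (y : F)⁻¹) v = v ^ Nat.card Q := by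
      simp [Nat.card_eq_fintype_card]
    have h1 : ∏ i ∈ Finset.range r', ∏ y : Q, φ ((y : F) * z ^ (i + 1) * (y : F)⁻¹) v = 1 := by
      apply Finset.prod_eq_one
      intro i hi
      have hi' : i + 1 < r' + 1 := by
        have := Finset.mem_range.mp hi
        omega
      let σ : Q → Q := fun y => ⟨(y : F) * (z ^ (i + 1) * (y : F)⁻¹ * (z ^ (i + 1))⁻¹),
        Q.mul_mem y.2 (hzn (i + 1) _ (Q.inv_mem y.2))⟩
      have hσ : Function.Injective σ := by
        intro y y' h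
        have h' : (y : F) * (z ^ (i + 1) * (y : F)⁻¹ * (z ^ (i + 1))⁻¹) =
            (y' : F) * (z ^ (i + 1) * (y' : F)⁻¹ * (z ^ (i + 1))⁻¹) := congrArg Subtype.val h
        have h2 : ((y' : F)⁻¹ * (y : F)) * z ^ (i + 1) = z ^ (i + 1) * ((y' : F)⁻¹ * (y : F)) := by
          have h3 : (y : F) * z ^ (i + 1) * (y : F)⁻¹ = (y' : F) * z ^ (i + 1) * (y' : F)⁻¹ := by
            have := congrArg (fun x => x * z ^ (i + 1)) h'
            simp only [mul_assoc, inv_mul_cancel, mul_one] at this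
            simpa [mul_assoc] using this
          calc ((y' : F)⁻¹ * (y : F)) * z ^ (i + 1)
              = (y' : F)⁻¹ * ((y : F) * z ^ (i + 1) * (y : F)⁻¹) * (y : F) := by group
            _ = (y' : F)⁻¹ * ((y' : F) * z ^ (i + 1) * (y' : F)⁻¹) * (y : F) := by rw [h3]
            _ = z ^ (i + 1) * ((y' : F)⁻¹ * (y : F)) := by group
        have h4 := hQz (i + 1) (Nat.succ_pos i) hi' _ (Q.mul_mem (Q.inv_mem y'.2) y.2) h2
        apply Subtype.ext
        have h5 : (y : F) = (y' : F) * ((y' : F)⁻¹ * (y : F)) := by group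
        rw [h5, h4, mul_one]
      have hσb : Function.Bijective σ := Finite.injective_iff_bijective.mp hσ
      have h2 : ∀ y : Q, φ ((y : F) * z ^ (i + 1) * (y : F)⁻¹) v =
          φ ((σ y : Q) : F) (φ (z ^ (i + 1)) v) := by
        intro y
        rw [← MulAut.mul_apply, ← map_mul]
        congr 2
        show (y : F) * z ^ (i + 1) * (y : F)⁻¹ =
          (y : F) * (z ^ (i + 1) * (y : F)⁻¹ * (z ^ (i + 1))⁻¹) * z ^ (i + 1)
        group
      rw [Finset.prod_congr rfl (fun y _ => h2 y)]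
      rw [hσb.prod_comp (fun u : Q => φ (u : F) (φ (z ^ (i + 1)) v))]
      exact key2 _
    rw [h1, h0, one_mul]
  rw [← hT2, hT1]


theorem comm_order {G : Type*} [Group G] {p q : ℕ} (hp : p.Prime) (hq : q.Prime) (hpq : p ≠ q)
    {a b : G} (hab : Commute a b) (ha1 : a ≠ 1) (hb1 : b ≠ 1)
    (ha : ∃ k, orderOf a = p ^ k) (hb : ∃ l, orderOf b = q ^ l) :
    ∃ x : G, orderOf x = p * q := by
  obtain ⟨k, hk⟩ := ha
  obtain ⟨l, hl⟩ := hb
  have hk0 : k ≠ 0 := by
    rintro rfl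
    rw [pow_zero, orderOf_eq_one_iff] at hk
    exact ha1 hk
  have hl0 : l ≠ 0 := by
    rintro rfl
    rw [pow_zero, orderOf_eq_one_iff] at hl
    exact hb1 hl
  have hpa : p ∣ orderOf a := by rw [hk]; exact dvd_pow_self p hk0
  have hqb : q ∣ orderOf b := by rw [hl]; exact dvd_pow_self q hl0
  have hoa : orderOf a ≠ 0 := by rw [hk]; exact pow_ne_zero _ hp.ne_zero
  have hob : orderOf b ≠ 0 := by rw [hl]; exact pow_ne_zero _ hq.ne_zero
  have h1 := orderOf_pow_orderOf_div hoa hpa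
  have h2 := orderOf_pow_orderOf_div hob hqb
  refine ⟨a ^ (orderOf a / p) * b ^ (orderOf b / q), ?_⟩
  rw [(hab.pow_pow _ _).orderOf_mul_eq_mul_orderOf_of_coprime
    (by rw [h1, h2]; exact (Nat.coprime_primes hp hq).mpr hpq), h1, h2]

theorem exists_order_of_normal_abelian {G : Type*} [Group G] [Finite G] (p q r : ℕ)
    (hp : p.Prime) (hq : q.Prime) (hr : r.Prime) (hpq : p ≠ q) (hpr : p ≠ r) (hqr : q ≠ r)
    (V : Subgroup G) [V.Normal] (hVc : ∀ a ∈ V, ∀ b ∈ V, a * b = b * a) (hVp : IsPGroup p V)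
    (hV1 : V ≠ ⊥) (Q : Subgroup G) (hQq : IsPGroup q Q) (hQ1 : Q ≠ ⊥)
    (z : G) (hz : orderOf z = r) (hzQ : ∀ y ∈ Q, z * y * z⁻¹ ∈ Q) :
    (∃ x : G, orderOf x = p * q) ∨ (∃ x : G, orderOf x = p * r) ∨
      (∃ x : G, orderOf x = q * r) := by
  by_contra hno
  rw [not_or, not_or] at hno
  obtain ⟨hno1, hno2, hno3⟩ := hno
  haveI : Fact p.Prime := ⟨hp⟩
  haveI : Fact q.Prime := ⟨hq⟩
  letI : CommGroup V :=
    { (inferInstance : Group V) with mul_comm := fun a b => Subtype.ext (hVc a a.2 b b.2) }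
  have hVord : ∀ v : V, ∃ k, orderOf (v : G) = p ^ k := by
    intro v
    obtain ⟨k, hk⟩ := IsPGroup.iff_orderOf.mp hVp v
    exact ⟨k, by rw [Subgroup.orderOf_coe, hk]⟩
  have hQord : ∀ y ∈ Q, ∃ k, orderOf y = q ^ k := by
    intro y hy
    obtain ⟨k, hk⟩ := IsPGroup.iff_orderOf.mp hQq ⟨y, hy⟩
    exact ⟨k, by rw [← hk, ← Subgroup.orderOf_coe]⟩
  have hzord : ∀ i, 0 < i → i < r → orderOf (z ^ i) = r ^ 1 := by
    intro i hi hir
    have hco : (orderOf z).Coprime i := by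
      rw [hz]
      exact (Nat.Prime.coprime_iff_not_dvd hr).mpr (Nat.not_dvd_of_pos_of_lt hi hir)
    rw [pow_one, Nat.Coprime.orderOf_pow hco, hz]
  have hz1 : ∀ i, 0 < i → i < r → z ^ i ≠ 1 := by
    intro i hi hir h
    have h2 := hzord i hi hir
    rw [h, orderOf_one, pow_one] at h2
    exact hr.one_lt.ne h2
  have hQex : ∃ y ∈ Q, y ≠ 1 := by
    by_contra h
    push Not at h
    exact hQ1 ((Subgroup.eq_bot_iff_forall Q).mpr h)
  have hVex : ∃ v ∈ V, v ≠ 1 := by
    by_contra h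
    push Not at h
    exact hV1 ((Subgroup.eq_bot_iff_forall V).mpr h)
  have hcommOf : ∀ (v : V) (g : G), MulAut.conjNormal (H := V) g v = v → Commute (v : G) g := by
    intro v g hv
    have h1 := congrArg Subtype.val hv
    rw [MulAut.conjNormal_apply] at h1
    show (v : G) * g = g * (v : G)
    calc (v : G) * g = (g * v * g⁻¹) * g := by rw [h1]
      _ = g * v := by group
  have key := norm_argument (MulAut.conjNormal (H := V)) Q z r hr.pos hzQ
    (by rw [← hz]; exact pow_orderOf_eq_one z) ?_ ?_ ?_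
  · obtain ⟨l, hl⟩ := IsPGroup.iff_card.mp hQq
    obtain ⟨v, hv, hv1⟩ := hVex
    have h1 := key ⟨v, hv⟩
    rw [hl] at h1
    have h2 : v ^ (q ^ l) = 1 := congrArg Subtype.val h1
    obtain ⟨k, hk⟩ := hVord ⟨v, hv⟩
    have h3 : orderOf v ∣ q ^ l := orderOf_dvd_of_pow_eq_one h2
    have hk' : orderOf v = p ^ k := hk
    rw [hk'] at h3
    have h4 : Nat.Coprime (p ^ k) (q ^ l) :=
      Nat.Coprime.pow _ _ ((Nat.coprime_primes hp hq).mpr hpq)
    have h5 : p ^ k = 1 := Nat.Coprime.eq_one_of_dvd h4 h3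
    rw [h5, orderOf_eq_one_iff] at hk'
    exact hv1 hk'
  · intro i hi hir y hy hcomm
    by_contra hy1
    exact hno3 (comm_order hq hr hqr (show Commute y (z ^ i) from hcomm) hy1 (hz1 i hi hir)
      (hQord y hy) ⟨1, hzord i hi hir⟩)
  · intro v hv
    by_contra hv1
    have hv1' : (v : G) ≠ 1 := fun h => hv1 (Subtype.ext h)
    have hz1' : z ≠ 1 := by simpa using hz1 1 one_pos hr.one_lt
    exact hno2 (comm_order hp hr hpr (hcommOf v z hv) hv1' hz1' (hVord v)
      ⟨1, by rw [pow_one, hz]⟩)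
  · intro v hv
    by_contra hv1
    have hv1' : (v : G) ≠ 1 := fun h => hv1 (Subtype.ext h)
    obtain ⟨y, hy, hy1⟩ := hQex
    exact hno1 (comm_order hp hq hpq (hcommOf v y (hv y hy)) hv1' hy1 (hVord v) (hQord y hy))


theorem exists_order_of_normal_pgroup {G : Type*} [Group G] [Finite G] (p q r : ℕ)
    (hp : p.Prime) (hq : q.Prime) (hr : r.Prime) (hpq : p ≠ q) (hpr : p ≠ r) (hqr : q ≠ r)
    (P : Subgroup G) [P.Normal] (hPp : IsPGroup p P) (hP1 : P ≠ ⊥)
    (Q : Subgroup G) (hQq : IsPGroup q Q) (hQ1 : Q ≠ ⊥)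
    (z : G) (hz : orderOf z = r) (hzQ : ∀ y ∈ Q, z * y * z⁻¹ ∈ Q) :
    (∃ x : G, orderOf x = p * q) ∨ (∃ x : G, orderOf x = p * r) ∨
      (∃ x : G, orderOf x = q * r) := by
  haveI : Fact p.Prime := ⟨hp⟩
  haveI : Nontrivial P := (Subgroup.nontrivial_iff_ne_bot P).mpr hP1
  have hcn : Nontrivial (Subgroup.center P) := hPp.center_nontrivial
  haveI : ((Subgroup.center P).map P.subtype).Normal := inferInstance
  refine exists_order_of_normal_abelian p q r hp hq hr hpq hpr hqr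
    ((Subgroup.center P).map P.subtype) ?_ ?_ ?_ Q hQq hQ1 z hz hzQ
  · rintro a ⟨a', ha', rfl⟩ b ⟨b', hb', rfl⟩
    have h1 := Subgroup.mem_center_iff.mp ha' b'
    have h2 := congrArg Subtype.val h1
    simpa using h2.symm
  · exact (hPp.to_subgroup _).map _
  · intro h
    rw [Subgroup.map_eq_bot_iff_of_injective _ (Subgroup.subtype_injective P)] at h
    exact (Subgroup.nontrivial_iff_ne_bot _).mp hcn h

theorem three_primes {G : Type*} [Group G] [Finite G] (K M : Subgroup G) [K.Normal] [M.Normal]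
    (hKM : K ≤ M) (p q r : ℕ) (hp : p.Prime) (hq : q.Prime) (hr : r.Prime) (hpq : p ≠ q)
    (hpr : p ≠ r) (hqr : q ≠ r) (hpK : p ∣ Nat.card ↥K) (hqM : q ∣ Nat.card ↥M / Nat.card ↥K)
    (hrG : r ∣ Nat.card G / Nat.card ↥M) :
    (∃ x : G, orderOf x = p * q) ∨ (∃ x : G, orderOf x = p * r) ∨
      (∃ x : G, orderOf x = q * r) := by
  haveI : Fact p.Prime := ⟨hp⟩
  haveI : Fact q.Prime := ⟨hq⟩
  haveI : Fact r.Prime := ⟨hr⟩
  let P₀ : Sylow p K := default
  have hFr : Subgroup.normalizer ((P₀.1.map K.subtype : Subgroup G) : Set G) ⊔ K = ⊤ :=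
    Sylow.normalizer_sup_eq_top P₀
  have hPp : IsPGroup p (P₀.1.map K.subtype : Subgroup G) := P₀.isPGroup'.map _
  have hP1 : (P₀.1.map K.subtype : Subgroup G) ≠ ⊥ := by
    intro h
    rw [Subgroup.map_eq_bot_iff_of_injective _ (Subgroup.subtype_injective K)] at h
    exact P₀.ne_bot_of_dvd_card hpK h
  generalize (P₀.1.map K.subtype : Subgroup G) = P at hFr hPp hP1
  have hPN : P ≤ Subgroup.normalizer (P : Set G) := Subgroup.le_normalizer
  haveI hPnorm : (P.subgroupOf (Subgroup.normalizer (P : Set G))).Normal :=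
    Subgroup.normal_in_normalizer
  generalize Subgroup.normalizer (P : Set G) = N at hFr hPN hPnorm
  have hNM : N ⊔ M = ⊤ := top_le_iff.mp (hFr ▸ sup_le_sup_left hKM N)
  have hMeq : M = (M ⊓ N) ⊔ K := by
    apply le_antisymm
    · intro m hm
      have hmt : m ∈ N ⊔ K := hFr ▸ Subgroup.mem_top m
      obtain ⟨n, hn, k, hk, rfl⟩ := Subgroup.mem_sup_of_normal_right.mp hmt
      have hn' : n ∈ M := by
        have h1 := M.mul_mem hm (M.inv_mem (hKM hk))
        simpa using h1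
      exact Subgroup.mul_mem_sup ⟨hn', hn⟩ hk
    · exact sup_le inf_le_left hKM
  have hcardM : Nat.card K * K.relIndex M = Nat.card M := by
    have h1 := Subgroup.relIndex_mul_relIndex ⊥ K M bot_le hKM
    rwa [Subgroup.relIndex_bot_left, Subgroup.relIndex_bot_left] at h1
  have hq1 : q ∣ K.relIndex M := by
    have h1 : Nat.card M / Nat.card K = K.relIndex M := by
      rw [← hcardM]; exact Nat.mul_div_cancel_left _ Nat.card_pos
    rwa [h1] at hqM
  have hq2 : q ∣ Nat.card (M.subgroupOf N) := by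
    have h1 : K.relIndex M = K.relIndex (M ⊓ N) := by
      conv_lhs => rw [hMeq]
      exact Subgroup.relIndex_sup_right _ _
    have h2 : K.relIndex (M ⊓ N) ∣ Nat.card (M ⊓ N : Subgroup G) := Subgroup.relIndex_dvd_card _ _
    have h3 : Nat.card (M.subgroupOf N) = Nat.card (M ⊓ N : Subgroup G) := by
      rw [← Subgroup.inf_subgroupOf_right]
      exact Nat.card_congr (Subgroup.subgroupOfEquivOfLe inf_le_right).toEquiv
    rw [h3]; exact (h1 ▸ hq1).trans h2
  have hr1 : r ∣ (M.subgroupOf N).index := by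
    have h1 : Nat.card G / Nat.card M = M.index := by
      rw [← M.card_mul_index]; exact Nat.mul_div_cancel_left _ Nat.card_pos
    rw [h1] at hrG
    have h2 : M.index = M.relIndex N := by
      rw [← Subgroup.relIndex_top_right, ← hNM, Subgroup.relIndex_sup_right _ _]
    rw [h2] at hrG
    exact hrG
  let Q₀ : Sylow q (M.subgroupOf N) := default
  have hFr2 : Subgroup.normalizer
      ((Q₀.1.map (M.subgroupOf N).subtype : Subgroup N) : Set N) ⊔ M.subgroupOf N = ⊤ :=
    Sylow.normalizer_sup_eq_top Q₀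
  have hQq : IsPGroup q (Q₀.1.map (M.subgroupOf N).subtype : Subgroup N) := Q₀.isPGroup'.map _
  have hQ1 : (Q₀.1.map (M.subgroupOf N).subtype : Subgroup N) ≠ ⊥ := by
    intro h
    rw [Subgroup.map_eq_bot_iff_of_injective _ (Subgroup.subtype_injective _)] at h
    exact Q₀.ne_bot_of_dvd_card hq2 h
  generalize (Q₀.1.map (M.subgroupOf N).subtype : Subgroup N) = Q' at hFr2 hQq hQ1
  have hr2 : r ∣ Nat.card (Subgroup.normalizer (Q' : Set N)) := by
    have h1 : (M.subgroupOf N).index =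
        (M.subgroupOf N).relIndex (Subgroup.normalizer (Q' : Set N)) := by
      rw [← Subgroup.relIndex_top_right, ← hFr2, Subgroup.relIndex_sup_right _ _]
    rw [h1] at hr1
    exact hr1.trans (Subgroup.relIndex_dvd_card _ _)
  obtain ⟨z, hz⟩ := exists_prime_orderOf_dvd_card' r hr2
  have hzQ : ∀ y ∈ Q', (z : N) * y * (z : N)⁻¹ ∈ Q' :=
    fun y hy => (Subgroup.mem_normalizer_iff.mp z.2 y).mp hy
  have hP'p : IsPGroup p (P.subgroupOf N) := hPp.comap_subtype
  have hP'1 : P.subgroupOf N ≠ ⊥ := by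
    intro h
    rw [Subgroup.subgroupOf_eq_bot, disjoint_iff, inf_of_le_left hPN] at h
    exact hP1 h
  have hz' : orderOf (z : N) = r := by rw [Subgroup.orderOf_coe, hz]
  rcases exists_order_of_normal_pgroup p q r hp hq hr hpq hpr hqr (P.subgroupOf N) hP'p hP'1
    Q' hQq hQ1 (z : N) hz' hzQ with ⟨x, hx⟩ | ⟨x, hx⟩ | ⟨x, hx⟩
  · exact Or.inl ⟨x, by rw [Subgroup.orderOf_coe, hx]⟩
  · exact Or.inr (Or.inl ⟨x, by rw [Subgroup.orderOf_coe, hx]⟩)
  · exact Or.inr (Or.inr ⟨x, by rw [Subgroup.orderOf_coe, hx]⟩)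


theorem exists_order_of_abelian_section {G : Type*} [Group G] [Finite G] (A B : Subgroup G)
    [A.Normal] (hc : ⁅B, B⁆ ≤ A) (u u' : ℕ) (hu : u.Prime) (hu' : u'.Prime) (huu' : u ≠ u')
    (h1 : u ∣ Nat.card B) (h2 : u' ∣ Nat.card B) (h3 : ¬ u ∣ Nat.card A)
    (h4 : ¬ u' ∣ Nat.card A) : ∃ x : G, orderOf x = u * u' := by
  haveI : Fact u.Prime := ⟨hu⟩
  haveI : Fact u'.Prime := ⟨hu'⟩
  obtain ⟨a, ha⟩ := exists_prime_orderOf_dvd_card' u h1
  obtain ⟨b, hb⟩ := exists_prime_orderOf_dvd_card' u' h2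
  have ha' : orderOf (a : G) = u := by rw [Subgroup.orderOf_coe, ha]
  have hb' : orderOf (b : G) = u' := by rw [Subgroup.orderOf_coe, hb]
  have hcomm : Commute (QuotientGroup.mk' A (a : G)) (QuotientGroup.mk' A (b : G)) := by
    show QuotientGroup.mk' A (a : G) * QuotientGroup.mk' A (b : G) =
      QuotientGroup.mk' A (b : G) * QuotientGroup.mk' A (a : G)
    rw [← map_mul, ← map_mul]
    apply QuotientGroup.eq.mpr
    apply hc
    have e : ((a : G) * b)⁻¹ * (b * a) = ⁅(b : G)⁻¹, (a : G)⁻¹⁆ := by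
      rw [commutatorElement_def]; group
    rw [e]
    exact Subgroup.commutator_mem_commutator (B.inv_mem b.2) (B.inv_mem a.2)
  have hπa : orderOf (QuotientGroup.mk' A (a : G)) = u := by
    apply orderOf_eq_prime
    · rw [← map_pow, ← ha', pow_orderOf_eq_one, map_one]
    · intro h
      have hmem : (a : G) ∈ A := (QuotientGroup.eq_one_iff _).mp h
      have h5 := A.orderOf_dvd_natCard hmem
      rw [ha'] at h5
      exact h3 h5
  have hπb : orderOf (QuotientGroup.mk' A (b : G)) = u' := by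
    apply orderOf_eq_prime
    · rw [← map_pow, ← hb', pow_orderOf_eq_one, map_one]
    · intro h
      have hmem : (b : G) ∈ A := (QuotientGroup.eq_one_iff _).mp h
      have h5 := A.orderOf_dvd_natCard hmem
      rw [hb'] at h5
      exact h4 h5
  have hab : orderOf (QuotientGroup.mk' A (a : G) * QuotientGroup.mk' A (b : G)) = u * u' := by
    rw [hcomm.orderOf_mul_eq_mul_orderOf_of_coprime
      (by rw [hπa, hπb]; exact (Nat.coprime_primes hu hu').mpr huu'), hπa, hπb]
  rw [← map_mul] at hab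
  have hdvd : u * u' ∣ orderOf ((a : G) * b) := hab ▸ orderOf_map_dvd (QuotientGroup.mk' A) _
  exact ⟨_, orderOf_pow_orderOf_div (orderOf_pos _).ne' hdvd⟩

def dser {G : Type*} [Group G] (K : Subgroup G) : ℕ → Subgroup G
  | 0 => K
  | (n + 1) => dser ⁅K, K⁆ n

theorem dser_succ {G : Type*} [Group G] (K : Subgroup G) (n : ℕ) :
    dser K (n + 1) = ⁅dser K n, dser K n⁆ := by
  induction n generalizing K with
  | zero => rfl
  | succ n ih => exact ih ⁅K, K⁆

theorem dser_of_solvable {G : Type*} [Group G] (K : Subgroup G) (h : Group.IsSolvable K) :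
    ∃ n, dser K n = ⊥ := by
  obtain ⟨n, hn⟩ := h.solvable
  refine ⟨n, ?_⟩
  have key : ∀ m, (derivedSeries K m).map K.subtype = dser K m := by
    intro m
    induction m with
    | zero =>
      show (⊤ : Subgroup K).map K.subtype = K
      rw [← MonoidHom.range_eq_map, Subgroup.range_subtype]
    | succ m ih => rw [derivedSeries_succ, Subgroup.map_commutator, ih, dser_succ]
  rw [← key, hn, Subgroup.map_bot]

theorem at_most_one {G : Type*} [Group G] [Finite G] (ρ : Finset ℕ) (hρ : 3 ≤ ρ.card)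
    (hc : (∀ r ∈ ρ, r.Prime ∧ r ∣ Nat.card G) ∧
      (∀ r ∈ ρ, ∀ s ∈ ρ, r ≠ s → ¬ ∃ x : G, orderOf x = r * s)) (n : ℕ) :
    ∀ (K : Subgroup G), K.Normal → dser K n = ⊥ →
      ∀ r ∈ ρ, ∀ s ∈ ρ, r ∣ Nat.card ↥K → s ∣ Nat.card ↥K → r = s := by
  induction n with
  | zero =>
    intro K _ hK r hr s hs hrK hsK
    exfalso
    have hK' : K = ⊥ := hK
    rw [hK', Subgroup.card_bot] at hrK
    exact (hc.1 r hr).1.one_lt.ne' (Nat.dvd_one.mp hrK)
  | succ n ih =>
    intro K hKn hK a ha b hb haK hbK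
    by_contra hab
    haveI := hKn
    haveI hKn' : (⁅K, K⁆ : Subgroup G).Normal := Subgroup.commutator_normal K K
    have hK' : dser ⁅K, K⁆ n = ⊥ := hK
    have IH := ih ⁅K, K⁆ hKn' hK'
    have hle : ⁅K, K⁆ ≤ K := Subgroup.commutator_le_self K
    obtain ⟨c, hc', hca, hcb⟩ : ∃ c ∈ ρ, c ≠ a ∧ c ≠ b := by
      have h1 : 1 ≤ ((ρ.erase a).erase b).card := by
        have h3 := Finset.card_erase_of_mem ha
        have h2 : (ρ.erase a).card - 1 ≤ ((ρ.erase a).erase b).card :=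
          Finset.pred_card_le_card_erase
        omega
      obtain ⟨c, hc'⟩ := Finset.card_pos.mp h1
      rw [Finset.mem_erase, Finset.mem_erase] at hc'
      exact ⟨c, hc'.2.2, hc'.2.1, hc'.1⟩
    have core : ∀ a b c : ℕ, a ∈ ρ → b ∈ ρ → c ∈ ρ → a ≠ b → c ≠ a → c ≠ b →
        a ∣ Nat.card ↥(⁅K, K⁆ : Subgroup G) → b ∣ Nat.card K → False := by
      intro a b c ha hb hc' hab hca hcb haK' hbK
      have hbK' : ¬ b ∣ Nat.card ↥(⁅K, K⁆ : Subgroup G) := fun h => hab (IH a ha b hb haK' h)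
      have hcK' : ¬ c ∣ Nat.card ↥(⁅K, K⁆ : Subgroup G) :=
        fun h => hca (IH a ha c hc' haK' h).symm
      have hpa := (hc.1 a ha).1
      have hpb := (hc.1 b hb).1
      have hpc := (hc.1 c hc').1
      by_cases hcK : c ∣ Nat.card K
      · obtain ⟨x, hx⟩ := exists_order_of_abelian_section ⁅K, K⁆ K le_rfl b c hpb hpc
          (Ne.symm hcb) hbK hcK hbK' hcK'
        exact hc.2 b hb c hc' (Ne.symm hcb) ⟨x, hx⟩
      · have hdK : Nat.card ↥(⁅K, K⁆ : Subgroup G) ∣ Nat.card K := Subgroup.card_dvd_of_le hle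
        have hb2 : b ∣ Nat.card K / Nat.card ↥(⁅K, K⁆ : Subgroup G) := by
          have h5 := Nat.mul_div_cancel' hdK
          rw [← h5] at hbK
          rcases (Nat.Prime.dvd_mul hpb).mp hbK with h | h
          · exact absurd h hbK'
          · exact h
        have hc2 : c ∣ Nat.card G / Nat.card K := by
          have hdG : Nat.card K ∣ Nat.card G := Subgroup.card_subgroup_dvd_card K
          have h5 := Nat.mul_div_cancel' hdG
          have hcG := (hc.1 c hc').2
          rw [← h5] at hcG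
          rcases (Nat.Prime.dvd_mul hpc).mp hcG with h | h
          · exact absurd h hcK
          · exact h
        rcases three_primes ⁅K, K⁆ K hle a b c hpa hpb hpc hab (Ne.symm hca) (Ne.symm hcb)
          haK' hb2 hc2 with ⟨x, hx⟩ | ⟨x, hx⟩ | ⟨x, hx⟩
        · exact hc.2 a ha b hb hab ⟨x, hx⟩
        · exact hc.2 a ha c hc' (Ne.symm hca) ⟨x, hx⟩
        · exact hc.2 b hb c hc' (Ne.symm hcb) ⟨x, hx⟩
    by_cases haK' : a ∣ Nat.card ↥(⁅K, K⁆ : Subgroup G)
    · exact core a b c ha hb hc' hab hca hcb haK' hbK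
    · by_cases hbK' : b ∣ Nat.card ↥(⁅K, K⁆ : Subgroup G)
      · exact core b a c hb ha hc' (Ne.symm hab) hcb hca hbK' haK
      · obtain ⟨x, hx⟩ := exists_order_of_abelian_section ⁅K, K⁆ K le_rfl a b (hc.1 a ha).1
          (hc.1 b hb).1 hab haK hbK haK' hbK'
        exact hc.2 a ha b hb hab ⟨x, hx⟩

end Cfsg.Agent.Lib.Helper6.PrimeGraph3
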