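import Mathlib
import Cfsg.Prelude.Def_Solvable
import Cfsg.Agent.Lib.Helper2.GL2Reg

set_option autoImplicit false

namespace Cfsg.Agent.Lib.Helper6.SL25Frob

open Cfsg.Agent.Lib.Helper2.GL2Reg

/-- An injective homomorphism `SL(2,5) → SL(2,11)` given as a table of matrix entries,
indexed by the four entries of the matrix over `ZMod 5`. -/
def T : List (List (List (List N4))) := [
  [[[(0, 0, 0, 0), (0, 0, 0, 0), (0, 0, 0, 0), (0, 0, 0, 0), (0, 0, 0, 0)],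
    [(0, 0, 0, 0), (0, 0, 0, 0), (0, 0, 0, 0), (0, 0, 0, 0), (0, 0, 0, 0)],
    [(0, 0, 0, 0), (0, 0, 0, 0), (0, 0, 0, 0), (0, 0, 0, 0), (0, 0, 0, 0)],
    [(0, 0, 0, 0), (0, 0, 0, 0), (0, 0, 0, 0), (0, 0, 0, 0), (0, 0, 0, 0)],
    [(0, 0, 0, 0), (0, 0, 0, 0), (0, 0, 0, 0), (0, 0, 0, 0), (0, 0, 0, 0)]],
   [[(0, 0, 0, 0), (0, 0, 0, 0), (0, 0, 0, 0), (0, 0, 0, 0), (0, 0, 0, 0)],
    [(0, 0, 0, 0), (0, 0, 0, 0), (0, 0, 0, 0), (0, 0, 0, 0), (0, 0, 0, 0)],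
    [(0, 0, 0, 0), (0, 0, 0, 0), (0, 0, 0, 0), (0, 0, 0, 0), (0, 0, 0, 0)],
    [(0, 0, 0, 0), (0, 0, 0, 0), (0, 0, 0, 0), (0, 0, 0, 0), (0, 0, 0, 0)],
    [(8, 7, 8, 3), (9, 3, 5, 3), (8, 2, 7, 6), (4, 3, 5, 4), (4, 7, 8, 6)]],
   [[(0, 0, 0, 0), (0, 0, 0, 0), (0, 0, 0, 0), (0, 0, 0, 0), (0, 0, 0, 0)],
    [(0, 0, 0, 0), (0, 0, 0, 0), (0, 0, 0, 0), (0, 0, 0, 0), (0, 0, 0, 0)],
    [(0, 7, 3, 0), (10, 4, 2, 2), (4, 10, 0, 3), (7, 0, 9, 8), (1, 1, 8, 9)],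
    [(0, 0, 0, 0), (0, 0, 0, 0), (0, 0, 0, 0), (0, 0, 0, 0), (0, 0, 0, 0)],
    [(0, 0, 0, 0), (0, 0, 0, 0), (0, 0, 0, 0), (0, 0, 0, 0), (0, 0, 0, 0)]],
   [[(0, 0, 0, 0), (0, 0, 0, 0), (0, 0, 0, 0), (0, 0, 0, 0), (0, 0, 0, 0)],
    [(0, 0, 0, 0), (0, 0, 0, 0), (0, 0, 0, 0), (0, 0, 0, 0), (0, 0, 0, 0)],
    [(0, 0, 0, 0), (0, 0, 0, 0), (0, 0, 0, 0), (0, 0, 0, 0), (0, 0, 0, 0)],
    [(0, 4, 8, 0), (10, 10, 3, 2), (4, 0, 2, 3), (7, 1, 0, 8), (1, 7, 9, 9)],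
    [(0, 0, 0, 0), (0, 0, 0, 0), (0, 0, 0, 0), (0, 0, 0, 0), (0, 0, 0, 0)]],
   [[(0, 0, 0, 0), (0, 0, 0, 0), (0, 0, 0, 0), (0, 0, 0, 0), (0, 0, 0, 0)],
    [(3, 4, 3, 8), (7, 4, 3, 5), (7, 8, 6, 7), (3, 9, 4, 5), (2, 8, 6, 8)],
    [(0, 0, 0, 0), (0, 0, 0, 0), (0, 0, 0, 0), (0, 0, 0, 0), (0, 0, 0, 0)],
    [(0, 0, 0, 0), (0, 0, 0, 0), (0, 0, 0, 0), (0, 0, 0, 0), (0, 0, 0, 0)],
    [(0, 0, 0, 0), (0, 0, 0, 0), (0, 0, 0, 0), (0, 0, 0, 0), (0, 0, 0, 0)]]],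
  [[[(0, 0, 0, 0), (1, 0, 0, 1), (0, 0, 0, 0), (0, 0, 0, 0), (0, 0, 0, 0)],
    [(0, 0, 0, 0), (3, 5, 2, 0), (0, 0, 0, 0), (0, 0, 0, 0), (0, 0, 0, 0)],
    [(0, 0, 0, 0), (8, 4, 6, 10), (0, 0, 0, 0), (0, 0, 0, 0), (0, 0, 0, 0)],
    [(0, 0, 0, 0), (10, 7, 5, 8), (0, 0, 0, 0), (0, 0, 0, 0), (0, 0, 0, 0)],
    [(0, 0, 0, 0), (0, 6, 9, 3), (0, 0, 0, 0), (0, 0, 0, 0), (0, 0, 0, 0)]],
   [[(0, 0, 0, 0), (0, 1, 10, 3), (0, 0, 0, 0), (0, 0, 0, 0), (0, 0, 0, 0)],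
    [(0, 0, 0, 0), (0, 0, 0, 0), (6, 7, 0, 2), (0, 0, 0, 0), (0, 0, 0, 0)],
    [(0, 0, 0, 0), (0, 0, 0, 0), (0, 0, 0, 0), (7, 9, 1, 3), (0, 0, 0, 0)],
    [(0, 0, 0, 0), (0, 0, 0, 0), (0, 0, 0, 0), (0, 0, 0, 0), (4, 9, 3, 7)],
    [(5, 7, 8, 7), (0, 0, 0, 0), (0, 0, 0, 0), (0, 0, 0, 0), (0, 0, 0, 0)]],
   [[(0, 0, 0, 0), (10, 3, 8, 8), (0, 0, 0, 0), (0, 0, 0, 0), (0, 0, 0, 0)],
    [(0, 0, 0, 0), (0, 0, 0, 0), (0, 0, 0, 0), (4, 5, 9, 6), (0, 0, 0, 0)],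
    [(2, 1, 8, 10), (0, 0, 0, 0), (0, 0, 0, 0), (0, 0, 0, 0), (0, 0, 0, 0)],
    [(0, 0, 0, 0), (0, 0, 0, 0), (2, 9, 4, 2), (0, 0, 0, 0), (0, 0, 0, 0)],
    [(0, 0, 0, 0), (0, 0, 0, 0), (0, 0, 0, 0), (0, 0, 0, 0), (4, 4, 4, 7)]],
   [[(0, 0, 0, 0), (8, 8, 3, 10), (0, 0, 0, 0), (0, 0, 0, 0), (0, 0, 0, 0)],
    [(0, 0, 0, 0), (0, 0, 0, 0), (0, 0, 0, 0), (0, 0, 0, 0), (6, 8, 5, 5)],
    [(0, 0, 0, 0), (0, 0, 0, 0), (10, 5, 1, 5), (0, 0, 0, 0), (0, 0, 0, 0)],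
    [(2, 7, 9, 10), (0, 0, 0, 0), (0, 0, 0, 0), (0, 0, 0, 0), (0, 0, 0, 0)],
    [(0, 0, 0, 0), (0, 0, 0, 0), (0, 0, 0, 0), (7, 5, 4, 3), (0, 0, 0, 0)]],
   [[(0, 0, 0, 0), (3, 10, 1, 0), (0, 0, 0, 0), (0, 0, 0, 0), (0, 0, 0, 0)],
    [(3, 8, 6, 9), (0, 0, 0, 0), (0, 0, 0, 0), (0, 0, 0, 0), (0, 0, 0, 0)],
    [(0, 0, 0, 0), (0, 0, 0, 0), (0, 0, 0, 0), (0, 0, 0, 0), (6, 3, 6, 5)],
    [(0, 0, 0, 0), (0, 0, 0, 0), (0, 0, 0, 0), (4, 1, 1, 6), (0, 0, 0, 0)],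
    [(0, 0, 0, 0), (0, 0, 0, 0), (6, 0, 8, 2), (0, 0, 0, 0), (0, 0, 0, 0)]]],
  [[[(0, 0, 0, 0), (0, 0, 0, 0), (0, 0, 0, 0), (10, 1, 9, 1), (0, 0, 0, 0)],
    [(0, 0, 0, 0), (0, 0, 0, 0), (0, 0, 0, 0), (9, 6, 1, 2), (0, 0, 0, 0)],
    [(0, 0, 0, 0), (0, 0, 0, 0), (0, 0, 0, 0), (9, 8, 9, 2), (0, 0, 0, 0)],
    [(0, 0, 0, 0), (0, 0, 0, 0), (0, 0, 0, 0), (10, 6, 7, 1), (0, 0, 0, 0)],
    [(0, 0, 0, 0), (0, 0, 0, 0), (0, 0, 0, 0), (6, 1, 7, 5), (0, 0, 0, 0)]],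
   [[(0, 0, 0, 0), (0, 0, 0, 0), (0, 0, 0, 0), (6, 2, 9, 5), (0, 0, 0, 0)],
    [(0, 0, 0, 0), (2, 0, 3, 6), (0, 0, 0, 0), (0, 0, 0, 0), (0, 0, 0, 0)],
    [(0, 0, 0, 0), (0, 0, 0, 0), (0, 0, 0, 0), (0, 0, 0, 0), (8, 9, 1, 4)],
    [(0, 0, 0, 0), (0, 0, 0, 0), (10, 8, 4, 0), (0, 0, 0, 0), (0, 0, 0, 0)],
    [(7, 3, 5, 7), (0, 0, 0, 0), (0, 0, 0, 0), (0, 0, 0, 0), (0, 0, 0, 0)]],
   [[(0, 0, 0, 0), (0, 0, 0, 0), (0, 0, 0, 0), (10, 2, 10, 1), (0, 0, 0, 0)],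
    [(0, 0, 0, 0), (0, 0, 0, 0), (0, 0, 0, 0), (0, 0, 0, 0), (5, 5, 9, 7)],
    [(3, 0, 9, 4), (0, 0, 0, 0), (0, 0, 0, 0), (0, 0, 0, 0), (0, 0, 0, 0)],
    [(0, 0, 0, 0), (5, 6, 10, 10), (0, 0, 0, 0), (0, 0, 0, 0), (0, 0, 0, 0)],
    [(0, 0, 0, 0), (0, 0, 0, 0), (10, 9, 6, 0), (0, 0, 0, 0), (0, 0, 0, 0)]],
   [[(0, 0, 0, 0), (0, 0, 0, 0), (0, 0, 0, 0), (9, 1, 6, 2), (0, 0, 0, 0)],
    [(0, 0, 0, 0), (0, 0, 0, 0), (0, 2, 5, 10), (0, 0, 0, 0), (0, 0, 0, 0)],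
    [(0, 0, 0, 0), (2, 2, 7, 2), (0, 0, 0, 0), (0, 0, 0, 0), (0, 0, 0, 0)],
    [(3, 1, 0, 4), (0, 0, 0, 0), (0, 0, 0, 0), (0, 0, 0, 0), (0, 0, 0, 0)],
    [(0, 0, 0, 0), (0, 0, 0, 0), (0, 0, 0, 0), (0, 0, 0, 0), (8, 5, 4, 4)]],
   [[(0, 0, 0, 0), (0, 0, 0, 0), (0, 0, 0, 0), (9, 5, 10, 2), (0, 0, 0, 0)],
    [(6, 9, 4, 8), (0, 0, 0, 0), (0, 0, 0, 0), (0, 0, 0, 0), (0, 0, 0, 0)],
    [(0, 0, 0, 0), (0, 0, 0, 0), (0, 3, 7, 10), (0, 0, 0, 0), (0, 0, 0, 0)],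
    [(0, 0, 0, 0), (0, 0, 0, 0), (0, 0, 0, 0), (0, 0, 0, 0), (5, 1, 1, 7)],
    [(0, 0, 0, 0), (2, 4, 0, 6), (0, 0, 0, 0), (0, 0, 0, 0), (0, 0, 0, 0)]]],
  [[[(0, 0, 0, 0), (0, 0, 0, 0), (1, 10, 2, 10), (0, 0, 0, 0), (0, 0, 0, 0)],
    [(0, 0, 0, 0), (0, 0, 0, 0), (5, 10, 4, 6), (0, 0, 0, 0), (0, 0, 0, 0)],
    [(0, 0, 0, 0), (0, 0, 0, 0), (1, 5, 4, 10), (0, 0, 0, 0), (0, 0, 0, 0)],
    [(0, 0, 0, 0), (0, 0, 0, 0), (2, 3, 2, 9), (0, 0, 0, 0), (0, 0, 0, 0)],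
    [(0, 0, 0, 0), (0, 0, 0, 0), (2, 5, 10, 9), (0, 0, 0, 0), (0, 0, 0, 0)]],
   [[(0, 0, 0, 0), (0, 0, 0, 0), (2, 6, 1, 9), (0, 0, 0, 0), (0, 0, 0, 0)],
    [(0, 0, 0, 0), (0, 0, 0, 0), (0, 0, 0, 0), (0, 0, 0, 0), (9, 7, 0, 5)],
    [(0, 0, 0, 0), (6, 10, 10, 4), (0, 0, 0, 0), (0, 0, 0, 0), (0, 0, 0, 0)],
    [(0, 0, 0, 0), (0, 0, 0, 0), (0, 0, 0, 0), (0, 8, 4, 1), (0, 0, 0, 0)],
    [(5, 2, 7, 3), (0, 0, 0, 0), (0, 0, 0, 0), (0, 0, 0, 0), (0, 0, 0, 0)]],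
   [[(0, 0, 0, 0), (0, 0, 0, 0), (2, 10, 5, 9), (0, 0, 0, 0), (0, 0, 0, 0)],
    [(0, 0, 0, 0), (3, 6, 7, 7), (0, 0, 0, 0), (0, 0, 0, 0), (0, 0, 0, 0)],
    [(8, 10, 0, 7), (0, 0, 0, 0), (0, 0, 0, 0), (0, 0, 0, 0), (0, 0, 0, 0)],
    [(0, 0, 0, 0), (0, 0, 0, 0), (0, 0, 0, 0), (0, 0, 0, 0), (9, 9, 4, 9)],
    [(0, 0, 0, 0), (0, 0, 0, 0), (0, 0, 0, 0), (0, 9, 6, 1), (0, 0, 0, 0)]],
   [[(0, 0, 0, 0), (0, 0, 0, 0), (1, 9, 1, 10), (0, 0, 0, 0), (0, 0, 0, 0)],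
    [(0, 0, 0, 0), (0, 0, 0, 0), (0, 0, 0, 0), (1, 2, 5, 0), (0, 0, 0, 0)],
    [(0, 0, 0, 0), (0, 0, 0, 0), (0, 0, 0, 0), (0, 0, 0, 0), (6, 5, 1, 1)],
    [(8, 0, 2, 7), (0, 0, 0, 0), (0, 0, 0, 0), (0, 0, 0, 0), (0, 0, 0, 0)],
    [(0, 0, 0, 0), (6, 6, 2, 4), (0, 0, 0, 0), (0, 0, 0, 0), (0, 0, 0, 0)]],
   [[(0, 0, 0, 0), (0, 0, 0, 0), (5, 9, 2, 6), (0, 0, 0, 0), (0, 0, 0, 0)],
    [(4, 8, 6, 4), (0, 0, 0, 0), (0, 0, 0, 0), (0, 0, 0, 0), (0, 0, 0, 0)],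
    [(0, 0, 0, 0), (0, 0, 0, 0), (0, 0, 0, 0), (1, 3, 7, 0), (0, 0, 0, 0)],
    [(0, 0, 0, 0), (3, 2, 10, 7), (0, 0, 0, 0), (0, 0, 0, 0), (0, 0, 0, 0)],
    [(0, 0, 0, 0), (0, 0, 0, 0), (0, 0, 0, 0), (0, 0, 0, 0), (9, 0, 8, 5)]]],
  [[[(0, 0, 0, 0), (0, 0, 0, 0), (0, 0, 0, 0), (0, 0, 0, 0), (10, 0, 0, 10)],
    [(0, 0, 0, 0), (0, 0, 0, 0), (0, 0, 0, 0), (0, 0, 0, 0), (0, 5, 2, 8)],
    [(0, 0, 0, 0), (0, 0, 0, 0), (0, 0, 0, 0), (0, 0, 0, 0), (1, 4, 6, 3)],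
    [(0, 0, 0, 0), (0, 0, 0, 0), (0, 0, 0, 0), (0, 0, 0, 0), (3, 7, 5, 1)],
    [(0, 0, 0, 0), (0, 0, 0, 0), (0, 0, 0, 0), (0, 0, 0, 0), (8, 6, 9, 0)]],
   [[(0, 0, 0, 0), (0, 0, 0, 0), (0, 0, 0, 0), (0, 0, 0, 0), (8, 1, 10, 0)],
    [(0, 0, 0, 0), (0, 0, 0, 0), (0, 0, 0, 0), (5, 0, 3, 9), (0, 0, 0, 0)],
    [(0, 0, 0, 0), (0, 0, 0, 0), (7, 10, 10, 5), (0, 0, 0, 0), (0, 0, 0, 0)],
    [(0, 0, 0, 0), (5, 8, 5, 6), (0, 0, 0, 0), (0, 0, 0, 0), (0, 0, 0, 0)],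
    [(8, 3, 5, 2), (0, 0, 0, 0), (0, 0, 0, 0), (0, 0, 0, 0), (0, 0, 0, 0)]],
   [[(0, 0, 0, 0), (0, 0, 0, 0), (0, 0, 0, 0), (0, 0, 0, 0), (3, 3, 8, 1)],
    [(0, 0, 0, 0), (0, 0, 0, 0), (4, 6, 7, 8), (0, 0, 0, 0), (0, 0, 0, 0)],
    [(9, 4, 2, 1), (0, 0, 0, 0), (0, 0, 0, 0), (0, 0, 0, 0), (0, 0, 0, 0)],
    [(0, 0, 0, 0), (0, 0, 0, 0), (0, 0, 0, 0), (1, 6, 10, 6), (0, 0, 0, 0)],
    [(0, 0, 0, 0), (5, 3, 6, 6), (0, 0, 0, 0), (0, 0, 0, 0), (0, 0, 0, 0)]],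
   [[(0, 0, 0, 0), (0, 0, 0, 0), (0, 0, 0, 0), (0, 0, 0, 0), (1, 8, 3, 3)],
    [(0, 0, 0, 0), (7, 7, 7, 4), (0, 0, 0, 0), (0, 0, 0, 0), (0, 0, 0, 0)],
    [(0, 0, 0, 0), (0, 0, 0, 0), (0, 0, 0, 0), (9, 2, 7, 9), (0, 0, 0, 0)],
    [(9, 10, 3, 1), (0, 0, 0, 0), (0, 0, 0, 0), (0, 0, 0, 0), (0, 0, 0, 0)],
    [(0, 0, 0, 0), (0, 0, 0, 0), (7, 6, 2, 5), (0, 0, 0, 0), (0, 0, 0, 0)]],
   [[(0, 0, 0, 0), (0, 0, 0, 0), (0, 0, 0, 0), (0, 0, 0, 0), (0, 10, 1, 8)],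
    [(6, 4, 3, 4), (0, 0, 0, 0), (0, 0, 0, 0), (0, 0, 0, 0), (0, 0, 0, 0)],
    [(0, 0, 0, 0), (7, 2, 8, 4), (0, 0, 0, 0), (0, 0, 0, 0), (0, 0, 0, 0)],
    [(0, 0, 0, 0), (0, 0, 0, 0), (4, 2, 10, 8), (0, 0, 0, 0), (0, 0, 0, 0)],
    [(0, 0, 0, 0), (0, 0, 0, 0), (0, 0, 0, 0), (5, 4, 0, 9), (0, 0, 0, 0)]]]]

/-- The entries of the 120 elements of `SL(2,5)`. -/
def KL : List N4 := [
  (0, 1, 4, 0), (0, 1, 4, 1), (0, 1, 4, 2), (0, 1, 4, 3), (0, 1, 4, 4), (0, 2, 2, 0),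
  (0, 2, 2, 1), (0, 2, 2, 2), (0, 2, 2, 3), (0, 2, 2, 4), (0, 3, 3, 0), (0, 3, 3, 1),
  (0, 3, 3, 2), (0, 3, 3, 3), (0, 3, 3, 4), (0, 4, 1, 0), (0, 4, 1, 1), (0, 4, 1, 2),
  (0, 4, 1, 3), (0, 4, 1, 4), (1, 0, 0, 1), (1, 0, 1, 1), (1, 0, 2, 1), (1, 0, 3, 1),
  (1, 0, 4, 1), (1, 1, 0, 1), (1, 1, 1, 2), (1, 1, 2, 3), (1, 1, 3, 4), (1, 1, 4, 0),
  (1, 2, 0, 1), (1, 2, 1, 3), (1, 2, 2, 0), (1, 2, 3, 2), (1, 2, 4, 4), (1, 3, 0, 1),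
  (1, 3, 1, 4), (1, 3, 2, 2), (1, 3, 3, 0), (1, 3, 4, 3), (1, 4, 0, 1), (1, 4, 1, 0),
  (1, 4, 2, 4), (1, 4, 3, 3), (1, 4, 4, 2), (2, 0, 0, 3), (2, 0, 1, 3), (2, 0, 2, 3),
  (2, 0, 3, 3), (2, 0, 4, 3), (2, 1, 0, 3), (2, 1, 1, 1), (2, 1, 2, 4), (2, 1, 3, 2),
  (2, 1, 4, 0), (2, 2, 0, 3), (2, 2, 1, 4), (2, 2, 2, 0), (2, 2, 3, 1), (2, 2, 4, 2),
  (2, 3, 0, 3), (2, 3, 1, 2), (2, 3, 2, 1), (2, 3, 3, 0), (2, 3, 4, 4), (2, 4, 0, 3),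
  (2, 4, 1, 0), (2, 4, 2, 2), (2, 4, 3, 4), (2, 4, 4, 1), (3, 0, 0, 2), (3, 0, 1, 2),
  (3, 0, 2, 2), (3, 0, 3, 2), (3, 0, 4, 2), (3, 1, 0, 2), (3, 1, 1, 4), (3, 1, 2, 1),
  (3, 1, 3, 3), (3, 1, 4, 0), (3, 2, 0, 2), (3, 2, 1, 1), (3, 2, 2, 0), (3, 2, 3, 4),
  (3, 2, 4, 3), (3, 3, 0, 2), (3, 3, 1, 3), (3, 3, 2, 4), (3, 3, 3, 0), (3, 3, 4, 1),
  (3, 4, 0, 2), (3, 4, 1, 0), (3, 4, 2, 3), (3, 4, 3, 1), (3, 4, 4, 4), (4, 0, 0, 4),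
  (4, 0, 1, 4), (4, 0, 2, 4), (4, 0, 3, 4), (4, 0, 4, 4), (4, 1, 0, 4), (4, 1, 1, 3),
  (4, 1, 2, 2), (4, 1, 3, 1), (4, 1, 4, 0), (4, 2, 0, 4), (4, 2, 1, 2), (4, 2, 2, 0),
  (4, 2, 3, 3), (4, 2, 4, 1), (4, 3, 0, 4), (4, 3, 1, 1), (4, 3, 2, 3), (4, 3, 3, 0),
  (4, 3, 4, 2), (4, 4, 0, 4), (4, 4, 1, 0), (4, 4, 2, 1), (4, 4, 3, 2), (4, 4, 4, 3)]

def look (k : N4) : N4 :=
  (((T.getD k.1 []).getD k.2.1 []).getD k.2.2.1 []).getD k.2.2.2 (0, 0, 0, 0)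

set_option maxRecDepth 1000000 in
set_option maxHeartbeats 4000000 in
theorem look_hom : ∀ k ∈ KL, ∀ k' ∈ KL, look (mulN 5 k k') = mulN 11 (look k) (look k') := by
  decide +kernel

set_option maxRecDepth 1000000 in
theorem look_one : look oneN = oneN := by decide +kernel

set_option maxRecDepth 1000000 in
theorem look_free : ∀ k ∈ KL, k ≠ oneN → detN 11 (look k) % 11 ≠ 0 := by decide +kernel

set_option maxRecDepth 1000000 in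
theorem key_mem : ∀ a b c d : ZMod 5, a * d - b * c = 1 →
    (a.val, b.val, c.val, d.val) ∈ KL := by decide +kernel

set_option maxRecDepth 1000000 in
theorem val_lem : ∀ a b c d : ZMod 5, (a * b + c * d).val = (a.val * b.val + c.val * d.val) % 5 := by
  decide +kernel

theorem val_one : ∀ a : ZMod 5, a.val = 1 → a = 1 := by decide

theorem val_zero : ∀ a : ZMod 5, a.val = 0 → a = 0 := by decide

abbrev SL := Matrix.SpecialLinearGroup (Fin 2) (ZMod 5)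

def key (s : SL) : N4 := ((s.1 0 0).val, (s.1 0 1).val, (s.1 1 0).val, (s.1 1 1).val)

theorem key_mem' (s : SL) : key s ∈ KL := by
  apply key_mem
  have h := s.2
  rw [Matrix.det_fin_two] at h
  exact h

theorem key_mul (s t : SL) : key (s * t) = mulN 5 (key s) (key t) := by
  unfold key mulN
  simp only [Matrix.SpecialLinearGroup.coe_mul, Matrix.mul_apply, Fin.sum_univ_two, val_lem]

theorem key_one : key 1 = oneN := by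
  unfold key oneN
  simp
  decide

theorem key_inj (s : SL) (h : key s = oneN) : s = 1 := by
  unfold key oneN at h
  simp only [Prod.mk.injEq] at h
  obtain ⟨h00, h01, h10, h11⟩ := h
  apply Subtype.ext
  ext i j
  fin_cases i <;> fin_cases j
  · simpa using val_one _ h00
  · simpa using val_zero _ h01
  · simpa using val_zero _ h10
  · simpa using val_one _ h11

def rho (s : SL) : Matrix (Fin 2) (Fin 2) (ZMod 11) := matN 11 (look (key s))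

theorem rho_one : rho 1 = 1 := by
  unfold rho
  rw [key_one, look_one, matN_one]

theorem rho_mul (s t : SL) : rho (s * t) = rho s * rho t := by
  unfold rho
  rw [key_mul, look_hom _ (key_mem' s) _ (key_mem' t), matN_mulN]

theorem rho_free (s : SL) (hs : s ≠ 1) (v : Fin 2 → ZMod 11)
    (hv : Matrix.mulVec (rho s) v = v) : v = 0 := by
  haveI : Fact (Nat.Prime 11) := ⟨by norm_num⟩
  have hne : key s ≠ oneN := fun h => hs (key_inj s h)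
  have hdet := look_free _ (key_mem' s) hne
  exact free_of_det _ hdet v hv

abbrev V := Multiplicative (Fin 2 → ZMod 11)

def phiFun (s : SL) : V ≃* V where
  toFun v := Multiplicative.ofAdd (Matrix.mulVec (rho s) (Multiplicative.toAdd v))
  invFun v := Multiplicative.ofAdd (Matrix.mulVec (rho s⁻¹) (Multiplicative.toAdd v))
  left_inv v := by
    show Multiplicative.ofAdd (Matrix.mulVec (rho s⁻¹)
      (Matrix.mulVec (rho s) (Multiplicative.toAdd v))) = v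
    rw [Matrix.mulVec_mulVec, ← rho_mul, inv_mul_cancel, rho_one, Matrix.one_mulVec]
    rfl
  right_inv v := by
    show Multiplicative.ofAdd (Matrix.mulVec (rho s)
      (Matrix.mulVec (rho s⁻¹) (Multiplicative.toAdd v))) = v
    rw [Matrix.mulVec_mulVec, ← rho_mul, mul_inv_cancel, rho_one, Matrix.one_mulVec]
    rfl
  map_mul' v w := by
    show Multiplicative.ofAdd (Matrix.mulVec (rho s)
      (Multiplicative.toAdd v + Multiplicative.toAdd w)) =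
      Multiplicative.ofAdd (Matrix.mulVec (rho s) (Multiplicative.toAdd v) +
        Matrix.mulVec (rho s) (Multiplicative.toAdd w))
    rw [Matrix.mulVec_add]

def phi : SL →* MulAut V where
  toFun := phiFun
  map_one' := by
    apply MulEquiv.ext
    intro v
    show Multiplicative.ofAdd (Matrix.mulVec (rho 1) (Multiplicative.toAdd v)) = v
    rw [rho_one, Matrix.one_mulVec]
    rfl
  map_mul' s t := by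
    apply MulEquiv.ext
    intro v
    show Multiplicative.ofAdd (Matrix.mulVec (rho (s * t)) (Multiplicative.toAdd v)) =
      Multiplicative.ofAdd (Matrix.mulVec (rho s) (Matrix.mulVec (rho t) (Multiplicative.toAdd v)))
    rw [rho_mul, Matrix.mulVec_mulVec]

theorem phi_apply (s : SL) (v : V) :
    phi s v = Multiplicative.ofAdd (Matrix.mulVec (rho s) (Multiplicative.toAdd v)) := rfl

def s₀ : SL := ⟨!![1, 1; 0, 1], by simp [Matrix.det_fin_two]⟩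

theorem s₀_ne : s₀ ≠ 1 := by
  intro h
  have h1 : s₀.1 0 1 = (1 : SL).1 0 1 := by rw [h]
  revert h1
  simp [s₀]
  decide

theorem main : ∃ (L : Type) (_ : Group L) (_ : Finite L) (H : Subgroup L),
    Cfsg.IsFrobeniusComplement H ∧
      Nonempty (H ≃* Matrix.SpecialLinearGroup (Fin 2) (ZMod 5)) := by
  refine ⟨V ⋊[phi] SL, inferInstance, Finite.of_equiv _ SemidirectProduct.equivProd.symm,
    (SemidirectProduct.inr : SL →* V ⋊[phi] SL).range, ?_,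
    ⟨(MonoidHom.ofInjective SemidirectProduct.inr_injective).symm⟩⟩
  refine ⟨?_, ?_, ?_⟩
  · intro h
    have h1 : (SemidirectProduct.inr s₀ : V ⋊[phi] SL) ∈ (⊥ : Subgroup (V ⋊[phi] SL)) := by
      rw [← h]; exact ⟨s₀, rfl⟩
    rw [Subgroup.mem_bot] at h1
    have h2 := SemidirectProduct.inr_injective (h1.trans (map_one _).symm)
    exact s₀_ne h2
  · intro h
    have h1 : (SemidirectProduct.inl (Multiplicative.ofAdd (fun _ => (1 : ZMod 11))) :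
        V ⋊[phi] SL) ∈ (SemidirectProduct.inr : SL →* V ⋊[phi] SL).range := by
      rw [h]; trivial
    obtain ⟨s, hs⟩ := h1
    have h2 := congrArg SemidirectProduct.left hs
    rw [SemidirectProduct.left_inr, SemidirectProduct.left_inl] at h2
    have h3 : (0 : Fin 2 → ZMod 11) 0 = (fun _ => (1 : ZMod 11)) 0 :=
      congrFun (congrArg Multiplicative.toAdd h2) 0
    revert h3
    decide
  · intro g hg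
    rw [eq_bot_iff]
    rintro x ⟨⟨h, rfl⟩, hx2⟩
    rw [Subgroup.mem_bot]
    obtain ⟨y, ⟨h', rfl⟩, hy⟩ := hx2
    have hy' : g * SemidirectProduct.inr h' = SemidirectProduct.inr h * g := by
      have h1 : g * SemidirectProduct.inr h' * g⁻¹ = SemidirectProduct.inr h := hy
      rw [← h1]; group
    have hl := congrArg SemidirectProduct.left hy'
    simp only [SemidirectProduct.mul_left, SemidirectProduct.left_inr,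
      SemidirectProduct.right_inr, map_one, mul_one, one_mul] at hl
    have hgl : g.left ≠ 1 := by
      intro h1
      apply hg
      refine ⟨g.right, ?_⟩
      rw [← SemidirectProduct.inl_left_mul_inr_right g, h1, map_one, one_mul,
        SemidirectProduct.right_inr]
    by_contra hne
    have hh : h ≠ 1 := fun h1 => hne (by rw [h1, map_one])
    have hfix : Matrix.mulVec (rho h) (Multiplicative.toAdd g.left) = Multiplicative.toAdd g.left := by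
      have h2 := congrArg Multiplicative.toAdd hl
      rw [phi_apply] at h2
      exact h2.symm
    have h0 := rho_free h hh _ hfix
    exact hgl (congrArg Multiplicative.ofAdd h0)

end Cfsg.Agent.Lib.Helper6.SL25Frob
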